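import Groth.Agent.ResDerLib.Lift
import Groth.Agent.LocFreeHomLib.Ext
import Groth.Agent.DCohMore.DualFlf
import Groth.Agent.BCLib.TensorQCoh
import Groth.Agent.CohBase.Affine
import Groth.Agent.DCohLib.GammaVanish
import Groth.Agent.TwistShriek.Basic
import Groth.Agent.ResDiagLib.Main
import Groth.Agent.DCohLib.QCohAbelian
import Groth.Agent.DCohMore.PerfVanish
import Groth.Agent.S1575

/-!
# Modules without higher extensions from finite locally free modules
-/

set_option autoImplicit false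
set_option linter.style.haveILetI false
set_option backward.isDefEq.respectTransparency false

universe u

open CategoryTheory CategoryTheory.Limits AlgebraicGeometry TopologicalSpace Abelian
open CategoryTheory.Pretriangulated
open Groth.Agent.PullbackMod Groth.Agent.DCohLib Groth.Agent.DCohMore Groth.Agent.StalkHomLib

attribute [local instance] HasDerivedCategory.standard

noncomputable section

namespace Groth.Agent.ResDerLib

variable {X : Scheme.{u}}

/-- No higher extensions from finite locally free modules. -/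
def Acy (J : X.Modules) : Prop :=
  ∀ V : X.Modules, FlatMod.IsFinLocFree V → ∀ n : ℕ, Subsingleton (Ext.{u} V J (n + 1))

theorem acy_of_retract {J K : X.Modules} (i : K ⟶ J) (p : J ⟶ K) (h : i ≫ p = 𝟙 K) (hJ : Acy J) : Acy K :=
  fun V hV n => subsingleton_of_forall_eq 0 fun x => by
    have hx : x.comp (Ext.mk₀ i) (add_zero (n + 1)) = 0 := (hJ V hV n).elim _ _
    have := congrArg (fun y => Ext.comp y (Ext.mk₀ p) (add_zero (n + 1))) hx
    simpa [Ext.comp_assoc_of_second_deg_zero, Ext.mk₀_comp_mk₀, h] using this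

theorem acy_biprod {J K : X.Modules} (hJ : Acy J) (hK : Acy K) : Acy (J ⊞ K) := fun V hV n =>
  subsingleton_of_forall_eq 0 fun x => by
    have h₁ : x.comp (Ext.mk₀ biprod.fst) (add_zero (n + 1)) = 0 := (hJ V hV n).elim _ _
    have h₂ : x.comp (Ext.mk₀ biprod.snd) (add_zero (n + 1)) = 0 := (hK V hV n).elim _ _
    calc x = x.comp (Ext.mk₀ (biprod.fst ≫ biprod.inl + biprod.snd ≫ biprod.inr)) (add_zero (n + 1)) := by
          rw [biprod.total, Ext.comp_mk₀_id]
      _ = 0 := by
          rw [Ext.mk₀_add, Ext.comp_add, ← Ext.mk₀_comp_mk₀, ← Ext.mk₀_comp_mk₀,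
            ← Ext.comp_assoc_of_second_deg_zero, ← Ext.comp_assoc_of_second_deg_zero, h₁, h₂,
            Ext.zero_comp, Ext.zero_comp, add_zero]

theorem acy_of_isZero {J : X.Modules} (hJ : IsZero J) : Acy J := fun V _ n =>
  subsingleton_of_forall_eq 0 fun x => by
    rw [← Ext.comp_mk₀_id x, hJ.eq_of_src (𝟙 J) 0, Ext.mk₀_zero, Ext.comp_zero]

/-- On an affine scheme quasi-coherent modules have no higher extensions from finite locally free modules. -/
theorem acy_of_isAffine [IsAffine X] (N : X.Modules) (hN : Coh.IsQCoh N) : Acy N := fun V hV n => by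
  haveI := hN
  haveI : ModSite.HasSheafHom (O := X.sheaf) V := ModTensor.hasSheafHom (O := X.sheaf) V
  obtain ⟨e⟩ := LocFreeHomLib.nonempty_ext_hF V hV (Coh.structureModule X) N (n + 1)
  haveI : Coh.IsQCoh (LocFreeHomLib.dualE V) :=
    (PullbackMod.isQCoh_and_isFP_of_isFinLocFree _ (isFinLocFree_dual V hV)).1
  haveI : Coh.IsQCoh (tmod N (LocFreeHomLib.dualE V)) := BCLib.isQCoh_tmod _ _
  haveI : Coh.IsQCoh ((hF V).obj N) := (SheafOfModules.isQuasicoherent X.ringCatSheaf).prop_of_iso
    ((LocFreeHomLib.tDualIso V hV).app N) ‹Coh.IsQCoh (tmod N (LocFreeHomLib.dualE V))›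
  haveI h := subsingleton_ext_unit ((hF V).obj N) (n + 1) (Groth.Agent.CohBase.subsingleton_HH _ (n + 1)
    (Groth.Agent.CohBase.affine_vanishing _ (isAffineOpen_top X) n))
  haveI h' : Subsingleton (Ext.{u} (tmod (Coh.structureModule X) V) N (n + 1)) := e.symm.toEquiv.subsingleton
  let c : tmod (Coh.structureModule X) V ≅ V := (isoTensorUnit X).app V
  exact subsingleton_of_forall_eq 0 fun x => by
    have hx : (Ext.mk₀ c.hom).comp x (zero_add (n + 1)) = 0 := Subsingleton.elim _ _
    have := congrArg (fun y => (Ext.mk₀ c.inv).comp y (zero_add (n + 1))) hx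
    simpa [Ext.mk₀_comp_mk₀_assoc] using this

theorem isAffineHom_ι_of_inf (hX : ∀ U V : X.Opens, IsAffineOpen U → IsAffineOpen V → IsAffineOpen (U ⊓ V))
    {U : X.Opens} (hU : IsAffineOpen U) : IsAffineHom U.ι := ⟨fun A hA => by
  rw [← U.ι.isAffineOpen_iff_of_isOpenImmersion, Scheme.Hom.image_preimage_eq_opensRange_inf,
    Scheme.Opens.opensRange_ι]
  exact hX U A hU hA⟩

/-- Direct images along affine opens have no higher extensions from finite locally free modules. -/
theorem acy_push {U : X.Opens} [IsAffineHom U.ι] [IsAffine (U : Scheme.{u})] (N : (U : Scheme.{u}).Modules)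
    (hN : Coh.IsQCoh N) : Acy ((Scheme.Modules.pushforward U.ι).obj N) := fun V hV n => by
  haveI := hN
  haveI : DCoh.HasRpush U.ι := Groth.Agent.KInj.hasRightDerivedFunctor (hres_modules _) _
  haveI : DCoh.HasLpull U.ι := hasLpull U.ι
  obtain ⟨r⟩ := DCohMore.nonempty_rpush_single U.ι N
  let S := DerivedCategory.singleFunctor X.Modules 0
  let S' := DerivedCategory.singleFunctor (U : Scheme.{u}).Modules 0
  let a : (DCoh.restrictD U.ι).obj (S.obj V) ≅ S'.obj ((Scheme.Modules.restrictFunctor U.ι).obj V) :=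
    ((Scheme.Modules.restrictFunctor U.ι).mapDerivedCategorySingleFunctor 0).app V
  let b : (DCoh.Rpush U.ι).obj (S'.obj N) ≅ S.obj ((Scheme.Modules.pushforward U.ι).obj N) :=
    (DCoh.Rpush U.ι).mapIso ((DerivedCategory.singleFunctorIsoCompQ _ 0).app N) ≪≫ r ≪≫
      ((DerivedCategory.singleFunctorIsoCompQ X.Modules 0).app _).symm
  refine subsingleton_of_forall_eq 0 fun x => Ext.homEquiv.injective ?_
  let k : ℤ := ((n + 1 : ℕ) : ℤ)
  let y : S.obj V ⟶ (S.obj ((Scheme.Modules.pushforward U.ι).obj N))⟦k⟧ := Ext.homEquiv x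
  suffices hy : y = 0 by
    exact (show Ext.homEquiv x = y from rfl).trans (hy.trans Ext.homAddEquiv.map_zero.symm)
  let z : (S.obj V)⟦-k⟧ ⟶ (DCoh.Rpush U.ι).obj (S'.obj N) :=
    y⟦-k⟧' ≫ ((shiftFunctorCompIsoId (DCoh.D X) k (-k) (by omega)).app _).hom ≫ b.inv
  have hz : z = 0 := by
    apply ((TwistShriek.restrictAdj U.ι).homEquiv _ _).symm.injective
    let c : (DCoh.restrictD U.ι).obj ((S.obj V)⟦-k⟧) ≅
        (S'.obj ((Scheme.Modules.restrictFunctor U.ι).obj V))⟦-k⟧ :=
      ((DCoh.restrictD U.ι).commShiftIso (-k)).app _ ≪≫ (shiftFunctor _ (-k)).mapIso a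
    rw [← cancel_epi c.inv]
    refine Eq.trans ?_ (comp_zero (f := c.inv)).symm |>.trans (congrArg _ ?_)
    · refine eq_zero_of_shift (-k) _ fun ψ => ?_
      have hv := acy_of_isAffine N hN _ (isFinLocFree_restrict U.ι hV) n
      let e : (S'.obj N)⟦-(-k)⟧ ≅ (S'.obj N)⟦k⟧ :=
        (eqToIso (congrArg (shiftFunctor (DCoh.D (U : Scheme.{u}))) (neg_neg k))).app _
      rw [← cancel_mono e.hom, zero_comp]
      obtain ⟨w, hw⟩ := Ext.homEquiv.surjective (ψ ≫ e.hom :
        ShiftedHom (S'.obj ((Scheme.Modules.restrictFunctor U.ι).obj V)) (S'.obj N) ((n + 1 : ℕ) : ℤ))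
      refine hw.symm.trans ?_
      rw [Subsingleton.elim w 0]
      exact Ext.homAddEquiv.map_zero
    · rw [Adjunction.homEquiv_counit, Functor.map_zero, zero_comp]
  have h2 : y⟦-k⟧' = 0 := by
    have h3 : y⟦-k⟧' ≫ (((shiftFunctorCompIsoId (DCoh.D X) k (-k) (by omega)).app _).hom ≫ b.inv) = 0 := hz
    exact (cancel_mono _).1 (h3.trans zero_comp.symm)
  exact (shiftFunctor (DCoh.D X) (-k)).map_injective (h2.trans (Functor.map_zero _ _ _).symm)

/-- Quasi-coherent modules embed into quasi-coherent modules without higher extensions from finite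
locally free modules. -/
theorem exists_mono_acy [CompactSpace X] [QuasiSeparatedSpace X] (hX : PerfAux.HasResolutionProperty X)
    (M : X.Modules) (hM : Coh.IsQCoh M) :
    ∃ (J : X.Modules) (ι : M ⟶ J), Mono ι ∧ Coh.IsQCoh J ∧ Acy J := by
  classical
  haveI := hM
  have hinf : ∀ U V : X.Opens, IsAffineOpen U → IsAffineOpen V → IsAffineOpen (U ⊓ V) :=
    fun U V hU hV => ResDiagLib.isAffineOpen_inf hX U V hU hV
  suffices H : ∀ t : Finset X.affineOpens, ∃ (J : X.Modules) (ι : M ⟶ J), Coh.IsQCoh J ∧ Acy J ∧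
      ∀ W ∈ t, ∃ q : J ⟶ (Scheme.Modules.pushforward (W : X.Opens).ι).obj
        ((Scheme.Modules.restrictFunctor (W : X.Opens).ι).obj M),
        ι ≫ q = (Scheme.Modules.restrictAdjunction (W : X.Opens).ι).unit.app M by
    obtain ⟨s, hsfin, hs⟩ := (isCompact_iff_finite_and_eq_biUnion_affineOpens (U := (⊤ : X.Opens))).1 isCompact_univ
    obtain ⟨J, ι, hJq, hJ, hq⟩ := H hsfin.toFinset
    refine ⟨J, ι, (mono_iff_stalk ι).2 fun x => ?_, hJq, hJ⟩
    obtain ⟨W, hW, hxW⟩ : ∃ W ∈ s, x ∈ (W : X.Opens) := by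
      have h : x ∈ (⊤ : X.Opens) := trivial
      rw [hs] at h
      simpa using h
    obtain ⟨q, hq⟩ := hq W (hsfin.mem_toFinset.2 hW)
    have hx : Function.Injective (stalkLin ((Scheme.Modules.restrictAdjunction (W : X.Opens).ι).unit.app M) x) :=
      (Groth.Agent.S1575.unit_stalk_bijective _ M ((Scheme.Opens.opensRange_ι _).symm ▸ hxW)).1
    rw [← hq, stalkLin_comp] at hx
    exact Function.Injective.of_comp (f := stalkLin q x) hx
  intro t
  induction t using Finset.induction with
  | empty =>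
    exact ⟨kernel (𝟙 M), 0, isQCoh_of_isZero (isZero_kernel_of_mono _),
      acy_of_isZero (isZero_kernel_of_mono _), by simp⟩
  | insert W t _ ih =>
    obtain ⟨J, ι, hJq, hJ, hq⟩ := ih
    haveI := isAffineHom_ι_of_inf hinf W.2
    haveI : IsAffine (W : X.Opens).toScheme := W.2
    let r := (Scheme.Modules.restrictFunctor (W : X.Opens).ι).obj M
    haveI : Coh.IsQCoh r := inferInstance
    refine ⟨J ⊞ (Scheme.Modules.pushforward (W : X.Opens).ι).obj r,
      biprod.lift ι ((Scheme.Modules.restrictAdjunction (W : X.Opens).ι).unit.app M),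
      isQCoh_biprod' hJq (QCohLib.isQCoh_pushforward r _), acy_biprod hJ (acy_push r inferInstance), fun W' hW' => ?_⟩
    rcases Finset.mem_insert.1 hW' with rfl | hW'
    · exact ⟨biprod.snd, biprod.lift_snd _ _⟩
    · obtain ⟨q, hq⟩ := hq W' hW'
      exact ⟨biprod.fst ≫ q, by rw [biprod.lift_fst_assoc, hq]⟩

end Groth.Agent.ResDerLib
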