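import Groth.Agent.ResDerLib.Cells
import Groth.Agent.DerSchH7.PerfAmp
import Groth.Agent.AmpleLib.Pullback
import Groth.Agent.AmpleEmb.Resolution
import Groth.Agent.DCohLib.TensorPerf
import Groth.Agent.S4269

/-!
# The additive category of negative powers of an ample family
-/

set_option autoImplicit false
set_option linter.style.haveILetI false
set_option backward.isDefEq.respectTransparency false

universe u

open CategoryTheory CategoryTheory.Limits AlgebraicGeometry TopologicalSpace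
open Groth.Agent.DCohLib Groth.Agent.DCohMore

attribute [local instance] HasDerivedCategory.standard

noncomputable section

namespace Groth.Agent.ResDerLib

variable {X : Scheme.{u}} {ι : Type u} (L : ι → X.Modules)

theorem inAddL_iso {M N : X.Modules} (e : M ≅ N) (h : KSix.InAddL L M) : KSix.InAddL L N := by
  obtain ⟨k, F, hF, ⟨e'⟩⟩ := h
  exact ⟨k, F, hF, ⟨e.symm ≪≫ e'⟩⟩

theorem inAddL_of_isZero {M : X.Modules} (h : IsZero M) : KSix.InAddL L M :=
  ⟨0, Fin.elim0, fun j => j.elim0,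
    ⟨h.iso ((IsZero.iff_id_eq_zero _).2 (biproduct.hom_ext _ _ fun j => j.elim0))⟩⟩

theorem flf_of_inAddL {M : X.Modules} (h : KSix.InAddL L M) : FlatMod.IsFinLocFree M := by
  obtain ⟨k, F, hF, ⟨e⟩⟩ := h
  refine DCohLib.isFinLocFree_iso ((biproduct.isoCoproduct F).symm ≪≫ e.symm)
    (DCohLib.isFinLocFree_sigma k F fun j => ?_)
  obtain ⟨i, p, -, ⟨θ⟩⟩ := hF j
  exact CurveLib.isFinLocFree_of_isInvertible (AmpleLib.isInvertible_of_tensor_iso θ)

theorem exists_perfect_resolution (hL : KSix.IsAmpleFamily L) (E : DCoh.D X) (m n : ℤ)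
    (hE : KSix.HasPerfectAmplitudeIn m n E) :
    ∃ F : CochainComplex X.Modules ℤ, DCoh.VanishesOutside F m n ∧ (∀ i : ℤ, m < i → KSix.InAddL L (F.X i)) ∧
      FlatMod.IsFinLocFree (F.X m) ∧ Nonempty (DCoh.toD X F ≅ E) := by
  haveI := hL.1
  haveI := hL.2.1
  obtain ⟨hpc, hfl⟩ := (DerSchH7.hasPerfectAmplitudeIn_iff E m n).1 hE
  rcases le_or_gt m n with hmn | hmn
  · exact exists_resolution_of_amplitude (A := fun M => KSix.InAddL L M) (fun M => flf_of_inAddL L)
      (fun e => inAddL_iso L e) (fun M => inAddL_of_isZero L) (fun F => Groth.Agent.S4269.result X L hL F) hmn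
      (isPseudoCoherentD_of_isPerfect' (isPerfect_of_flatAmplitude m n hfl hpc)) hfl
  · obtain ⟨F, hF, -, ⟨e⟩⟩ := hfl
    have hz : ∀ i, IsZero (F.X i) := fun i => hF i (by omega)
    exact ⟨F, hF, fun i _ => inAddL_of_isZero L (hz i), isFinLocFree_of_isZero (hz m), ⟨e⟩⟩

theorem exists_pc_resolution (hL : KSix.IsAmpleFamily L) (E : DCoh.D X)
    (hE : ∀ k : ℤ, DCoh.IsPseudoCoherentD k E) (a b : ℤ) [E.IsGE a] [E.IsLE b] :
    ∃ (F : CochainComplex X.Modules ℤ) (c : ℤ), (∀ i : ℤ, c < i → IsZero (F.X i)) ∧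
      (∀ i : ℤ, KSix.InAddL L (F.X i)) ∧ Nonempty (DCoh.toD X F ≅ E) := by
  haveI := hL.1
  haveI := hL.2.1
  exact exists_resolution_of_pc (A := fun M => KSix.InAddL L M) (fun M => flf_of_inAddL L)
      (fun e => inAddL_iso L e) (fun M => inAddL_of_isZero L) (fun F => Groth.Agent.S4269.result X L hL F) hE a b

end Groth.Agent.ResDerLib
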