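import Groth.Agent.ResDerLib.Perf
import Groth.Agent.K0ResLib.Basic
import Groth.Agent.DCohLib.PerfCrit
import Mathlib.Algebra.Homology.Embedding.ExtendHomology
import Groth.Agent.DCohMore.RelPerfTerms

/-!
# Resolutions with terms in a prescribed class of bundles
-/

set_option autoImplicit false
set_option linter.style.haveILetI false
set_option backward.isDefEq.respectTransparency false

universe u

open CategoryTheory CategoryTheory.Limits AlgebraicGeometry TopologicalSpace
open CategoryTheory.Pretriangulated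
open scoped ZeroObject
open Groth.Agent.DCohLib Groth.Agent.DCohMore

attribute [local instance] HasDerivedCategory.standard

noncomputable section

namespace Groth.Agent.ResDerLib

variable {X : Scheme.{u}}

local notation "S[" n "]" => DerivedCategory.singleFunctor (Scheme.Modules X) n
local notation "C[" n "]" => CochainComplex.singleFunctor (Scheme.Modules X) n
local notation "tX" => (DerivedCategory.TStructure.t : CategoryTheory.Triangulated.TStructure (DCoh.D X))

/-- A module in degree `m` maps to a complex in degrees `≥ m` by chain maps. -/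
theorem exists_chainMap (M : X.Modules) (m : ℤ) (E : CochainComplex X.Modules ℤ) [E.IsStrictlyGE m]
    (u : DerivedCategory.Q.obj ((C[m]).obj M) ⟶ DerivedCategory.Q.obj E) :
    ∃ γ : (C[m]).obj M ⟶ E, DerivedCategory.Q.map γ = u := by
  obtain ⟨X', hge, hle, s, hs, g, rfl⟩ :=
    DerivedCategory.right_fac_of_isStrictlyLE_of_isStrictlyGE m m u
  haveI := hs
  obtain ⟨M', ⟨e⟩⟩ := CochainComplex.exists_iso_single X' m
  obtain ⟨φ, hφ⟩ := (C[m]).map_surjective (show (C[m]).obj M' ⟶ (C[m]).obj M from e.inv ≫ s)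
  haveI : IsIso (DerivedCategory.Q.map ((C[m]).map φ)) := by
    rw [hφ, Functor.map_comp]
    infer_instance
  haveI : IsIso ((S[m]).map φ) :=
    (NatIso.isIso_map_iff (DerivedCategory.singleFunctorIsoCompQ X.Modules m) φ).2 this
  haveI : IsIso φ := isIso_of_reflects_iso φ (S[m])
  haveI : IsIso s := by
    rw [show s = e.hom ≫ (C[m]).map φ by rw [hφ, Iso.hom_inv_id_assoc]]
    infer_instance
  exact ⟨inv s ≫ g, by simp⟩

theorem isFT_of_flf {M : X.Modules} (h : FlatMod.IsFinLocFree M) : CohB1.IsFT M :=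
  ExactConstrLib.isFT_of_isFP (PullbackMod.isQCoh_and_isFP_of_isFinLocFree _ h).2

theorem isPseudoCoherentD_toD {E : CochainComplex X.Modules ℤ} (hE : DCoh.IsStrictlyPerfect E) (k : ℤ) :
    DCoh.IsPseudoCoherentD k (DCoh.toD X E) :=
  isPseudoCoherentD_of_isPerfect' (isPerfect_toD_of_strictlyPerfect hE) k

theorem epi_homology_single {M N : X.Modules} (f : M ⟶ N) [Epi f] (n : ℤ) :
    Epi ((DerivedCategory.homologyFunctor X.Modules n).map ((S[n]).map f)) := by
  have e : (DerivedCategory.homologyFunctor X.Modules n).map ((S[n]).map f) =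
      (DerivedCategory.singleFunctorCompHomologyFunctorIso X.Modules n).hom.app M ≫ f ≫
        (DerivedCategory.singleFunctorCompHomologyFunctorIso X.Modules n).inv.app N := by
    have h := (DerivedCategory.singleFunctorCompHomologyFunctorIso X.Modules n).inv.naturality f
    simp only [Functor.id_map, Functor.comp_map] at h
    rw [h]
    exact ((DerivedCategory.singleFunctorCompHomologyFunctorIso X.Modules n).hom_inv_id_app_assoc M _).symm
  rw [e]
  infer_instance

section

variable (A : ObjectProperty X.Modules)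

/-- A finite approximation from the right. -/
def HasStage (K : DCoh.D X) (hi m : ℤ) : Prop :=
  ∃ (E : CochainComplex X.Modules ℤ) (D : DCoh.D X) (f : D ⟶ DCoh.toD X E) (g : DCoh.toD X E ⟶ K)
    (h : K ⟶ D⟦(1 : ℤ)⟧), DCoh.VanishesOutside E m hi ∧ (∀ i, A (E.X i)) ∧
      Triangle.mk f g h ∈ distTriang _ ∧ D.IsLE m

variable {A} (hflf : ∀ M, A M → FlatMod.IsFinLocFree M) (hiso : ∀ {M N : X.Modules}, (M ≅ N) → A M → A N)
  (hzero : ∀ M : X.Modules, IsZero M → A M)
include hflf

theorem strictlyPerfect_of_terms {E : CochainComplex X.Modules ℤ} {a b : ℤ} (hE : DCoh.VanishesOutside E a b)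
    (hEA : ∀ i, A (E.X i)) : DCoh.IsStrictlyPerfect E :=
  ⟨⟨a, b, hE⟩, fun i => hflf _ (hEA i)⟩

theorem pc_fiber {E : CochainComplex X.Modules ℤ} {a b : ℤ} (hE : DCoh.VanishesOutside E a b)
    (hEA : ∀ i, A (E.X i)) {K D : DCoh.D X} (hK : ∀ k, DCoh.IsPseudoCoherentD k K) {f : D ⟶ DCoh.toD X E}
    {g : DCoh.toD X E ⟶ K} {h : K ⟶ D⟦(1 : ℤ)⟧} (hT : Triangle.mk f g h ∈ distTriang _) (k : ℤ) :
    DCoh.IsPseudoCoherentD k D := by
  have := isPseudoCoherentD_obj₁ (m := k - 1) _ hT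
    (isPseudoCoherentD_toD (strictlyPerfect_of_terms hflf hE hEA) _) (hK _)
  rwa [show k - 1 + 1 = k by omega] at this

variable [CompactSpace X] [QuasiSeparatedSpace X]
  (hcov : ∀ F : X.Modules, Coh.IsQCoh F → CohB1.IsFT F → ∃ (M : X.Modules) (π : M ⟶ F), A M ∧ Epi π)
include hcov hiso hzero

theorem hasStage {K : DCoh.D X} (hK : ∀ k, DCoh.IsPseudoCoherentD k K) (lo hi : ℤ) [K.IsGE lo] [K.IsLE hi] :
    ∀ k : ℕ, HasStage A K hi (hi + 1 - k) := by
  have hX : PerfAux.HasResolutionProperty X := fun F h h' => by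
    obtain ⟨M, π, hM, hπ⟩ := hcov F h h'
    exact ⟨M, π, hflf M hM, hπ⟩
  intro k
  induction k with
  | zero =>
    let Z : CochainComplex X.Modules ℤ := 0
    have hz : ∀ i, IsZero (Z.X i) := fun i => (HomologicalComplex.eval _ _ i).map_isZero (isZero_zero _)
    obtain ⟨D, f, h, hT⟩ := distinguished_cocone_triangle₁ (0 : DCoh.toD X Z ⟶ K)
    refine ⟨Z, D, f, 0, h, fun i _ => hz i, fun i => hzero _ (hz i), hT, ?_⟩
    haveI : Z.IsStrictlyLE (hi + 1 - ((0 : ℕ) : ℤ)) := (CochainComplex.isStrictlyLE_iff _ _).2 fun i _ => hz i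
    haveI := isLE_shift' K hi (-1) (hi + 1 - ((0 : ℕ) : ℤ)) (by push_cast; omega)
    exact (tX).isLE₂ _ (inv_rot_of_distTriang _ hT) (hi + 1 - ((0 : ℕ) : ℤ))
      (inferInstanceAs ((K⟦(-1 : ℤ)⟧).IsLE _)) ((DerivedCategory.isLE_Q_obj_iff Z _).2 inferInstance)
  | succ k ih =>
    obtain ⟨E, D, f, g, h, hE, hEA, hT, hD⟩ := ih
    let m := hi + 1 - (k : ℤ)
    let n := hi + 1 - ((k + 1 : ℕ) : ℤ)
    haveI := hD
    have hDpc := pc_fiber hflf hE hEA hK hT
    haveI : E.IsStrictlyGE m := (CochainComplex.isStrictlyGE_iff _ _).2 fun i hi => hE i (Or.inl hi)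
    have hge : ∀ c, c ≤ m → c ≤ lo + 1 → D.IsGE c := fun c h1 h2 => by
      haveI : E.IsStrictlyGE c := (CochainComplex.isStrictlyGE_iff _ _).2 fun i hi => hE i (Or.inl (by omega))
      haveI : (K⟦(-1 : ℤ)⟧).IsGE c := isGE_shift' K lo (-1) c (by omega)
      exact (tX).isGE₂ _ (inv_rot_of_distTriang _ hT) c
        (inferInstanceAs ((K⟦(-1 : ℤ)⟧).IsGE c)) ((DerivedCategory.isGE_Q_obj_iff E c).2 inferInstance)
    haveI := hge (min m (lo + 1)) (min_le_left _ _) (min_le_right _ _)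
    obtain ⟨V, e, hV, he⟩ := exists_lift_top hX (isQCohD_of_pc hDpc) (min m (lo + 1)) m
      (isFT_top (hDpc m) fun i hi => DerivedCategory.isZero_of_isLE D m i hi)
    obtain ⟨M, π, hM, hπ⟩ := hcov V (PullbackMod.isQCoh_and_isFP_of_isFinLocFree _ hV).1 (isFT_of_flf hV)
    haveI := hπ
    haveI := he
    let η := DerivedCategory.singleFunctorIsoCompQ X.Modules m
    let e' : DerivedCategory.Q.obj ((C[m]).obj M) ⟶ D := η.inv.app M ≫ (S[m]).map π ≫ e
    haveI : Epi ((DerivedCategory.homologyFunctor X.Modules m).map e') := by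
      haveI := epi_homology_single π m
      simp only [e', Functor.map_comp]
      infer_instance
    obtain ⟨γ, hγ⟩ := exists_chainMap M m E (e' ≫ f)
    obtain ⟨D', a, b, hD'⟩ := distinguished_cocone_triangle e'
    let o := Triangulated.someOctahedron hγ.symm hD' hT
      (DerivedCategory.mappingCone_triangle_distinguished γ)
    refine ⟨CochainComplex.mappingCone γ, D', o.m₁, o.m₃, _, fun i hii => ?_, fun i => ?_, o.mem, ?_⟩
    · exact IsZero.of_iso ((biprod_isZero_iff _ _).2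
        ⟨HomologicalComplex.isZero_single_obj_X _ _ _ _ (by simp only [m]; push_cast at hii; omega),
          hE i (by push_cast at hii; omega)⟩)
        (HomologicalComplex.homotopyCofiber.XIsoBiprod γ i (i + 1) rfl)
    · by_cases hi' : i + 1 = m
      · refine hiso ?_ hM
        exact (eqToIso (by rw [hi']; rfl) ≪≫ HomologicalComplex.singleObjXSelf (ComplexShape.up ℤ) m M :
          ((C[m]).obj M).X (i + 1) ≅ M).symm ≪≫ isoBiprodZero (hE i (Or.inl (by omega))) ≪≫
            (HomologicalComplex.homotopyCofiber.XIsoBiprod γ i (i + 1) rfl).symm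
      · exact hiso (isoZeroBiprod (HomologicalComplex.isZero_single_obj_X _ _ _ _ hi') ≪≫
          (HomologicalComplex.homotopyCofiber.XIsoBiprod γ i (i + 1) rfl).symm) (hEA i)
    · refine (DerivedCategory.isLE_iff _ _).2 fun i hii => ?_
      have hii' : m ≤ i := by simp only [m]; push_cast at hii; omega
      have hz : IsZero (DCoh.HD (DerivedCategory.Q.obj ((C[m]).obj M)) (i + 1)) := by
        haveI : ((C[m]).obj M).IsStrictlyLE m := inferInstance
        exact DerivedCategory.isZero_of_isLE _ m (i + 1) (by omega)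
      refine (DerivedCategory.HomologySequence.exact₃ _ hD' i (i + 1) rfl).isZero_of_both_zeros ?_
        (hz.eq_of_tgt _ _)
      show (DerivedCategory.homologyFunctor X.Modules i).map a = 0
      rcases eq_or_lt_of_le hii' with rfl | hlt
      · rw [← cancel_epi ((DerivedCategory.homologyFunctor X.Modules m).map e'), comp_zero, ← Functor.map_comp,
          show e' ≫ a = 0 from comp_distTriang_mor_zero₁₂ _ hD', Functor.map_zero]
      · exact (DerivedCategory.isZero_of_isLE D m i hlt).eq_of_src _ _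

theorem exists_resolution_of_amplitude {K : DCoh.D X} {m n : ℤ} (hmn : m ≤ n)
    (hK : ∀ k, DCoh.IsPseudoCoherentD k K) (hKf : DCoh.HasFlatAmplitudeIn m n K) :
    ∃ F : CochainComplex X.Modules ℤ, DCoh.VanishesOutside F m n ∧ (∀ i, m < i → A (F.X i)) ∧
      FlatMod.IsFinLocFree (F.X m) ∧ Nonempty (DCoh.toD X F ≅ K) := by
  obtain ⟨L, hL, hLf, ⟨eL⟩⟩ := id hKf
  haveI : L.IsStrictlyGE m := (CochainComplex.isStrictlyGE_iff _ _).2 fun i hi => hL i (Or.inl hi)
  haveI : L.IsStrictlyLE n := (CochainComplex.isStrictlyLE_iff _ _).2 fun i hi => hL i (Or.inr hi)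
  haveI : (DCoh.toD X L).IsGE m := (DerivedCategory.isGE_Q_obj_iff L m).2 inferInstance
  haveI : (DCoh.toD X L).IsLE n := (DerivedCategory.isLE_Q_obj_iff L n).2 inferInstance
  haveI : K.IsGE m := (tX).isGE_of_iso eL m
  haveI : K.IsLE n := (tX).isLE_of_iso eL n
  obtain ⟨p, hp⟩ : ∃ p : ℕ, n + 1 - (p : ℤ) = m + 1 := ⟨(n - m).toNat, by omega⟩
  obtain ⟨E, D, f, g, h, hE, hEA, hT, hD⟩ := hasStage hflf hiso hzero hcov hK m n p
  rw [hp] at hE hD
  haveI := hD
  haveI : E.IsStrictlyGE (m + 1) := (CochainComplex.isStrictlyGE_iff _ _).2 fun i hi => hE i (Or.inl hi)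
  have hDamp : DCoh.HasTorAmplitudeIn (m + 1) (n + 1) D := by
    refine torAmplitude₃ (inv_rot_of_distTriang _ (inv_rot_of_distTriang _ hT))
      (hasTorAmplitudeIn_of_hasFlatAmplitudeIn ?_) (hasTorAmplitudeIn_of_hasFlatAmplitudeIn ?_)
    · exact ⟨E⟦(-1 : ℤ)⟧, fun i hi => hE (i + -1) (by omega),
        fun i => DCohLib.isFlat_of_flf (hflf _ (hEA (i + -1))),
        ⟨(DerivedCategory.Q.commShiftIso (-1 : ℤ)).app E⟩⟩
    · exact ⟨L⟦(-1 : ℤ)⟧, fun i hi => hL (i + -1) (by omega), fun i => hLf (i + -1),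
        ⟨(DerivedCategory.Q.commShiftIso (-1 : ℤ)).app L ≪≫ (shiftFunctor _ (-1 : ℤ)).mapIso eL⟩⟩
  have hDpc := pc_fiber hflf hE hEA hK hT
  obtain ⟨V, hV, ⟨eV⟩⟩ := flf_of_amp (isPerfect_of_flatAmplitude (m + 1) (n + 1)
    (hasFlatAmplitudeIn_of_hasTorAmplitudeIn (by omega) hDamp) (hDpc _)) (isQCohD_of_pc hDpc)
    (by omega) hDamp fun i hi => DerivedCategory.isZero_of_isLE D (m + 1) i hi
  let e : DerivedCategory.Q.obj ((C[m + 1]).obj V) ≅ D :=
    ((DerivedCategory.singleFunctorIsoCompQ X.Modules (m + 1)).app V).symm ≪≫ eV.symm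
  obtain ⟨γ, hγ⟩ := exists_chainMap V (m + 1) E (e.hom ≫ f)
  refine ⟨CochainComplex.mappingCone γ, fun i hi => ?_, fun i hi => ?_, ?_,
    ⟨Triangle.π₃.mapIso (isoTriangleOfIso₁₂ _ _ (DerivedCategory.mappingCone_triangle_distinguished γ) hT
      e (Iso.refl _) ((Category.comp_id _).trans hγ))⟩⟩
  · exact IsZero.of_iso ((biprod_isZero_iff _ _).2
      ⟨HomologicalComplex.isZero_single_obj_X _ _ _ _ (by omega), hE i (by omega)⟩)
      (HomologicalComplex.homotopyCofiber.XIsoBiprod γ i (i + 1) rfl)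
  · exact hiso (isoZeroBiprod (HomologicalComplex.isZero_single_obj_X _ _ _ _ (by omega)) ≪≫
      (HomologicalComplex.homotopyCofiber.XIsoBiprod γ i (i + 1) rfl).symm) (hEA i)
  · exact isFinLocFree_iso ((HomologicalComplex.singleObjXSelf (ComplexShape.up ℤ) (m + 1) V).symm ≪≫
      isoBiprodZero (hE m (Or.inl (by omega))) ≪≫
      (HomologicalComplex.homotopyCofiber.XIsoBiprod γ m (m + 1) rfl).symm) hV

omit hiso hzero in
theorem exists_cover_pc {G : X.Modules} (hG : ∀ k, DCoh.IsPseudoCoherentD k (DCoh.inD X G)) :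
    ∃ (M : X.Modules) (π : M ⟶ G), A M ∧ Epi π ∧
      ∀ k, DCoh.IsPseudoCoherentD k (DCoh.inD X (kernel π)) := by
  let e : DCoh.HD (DCoh.inD X G) 0 ≅ G :=
    (DerivedCategory.singleFunctorCompHomologyFunctorIso X.Modules 0).app G
  have hft : CohB1.IsFT G := TildePerf.isFT_of_iso e
    (isFT_top (hG 0) fun i hi => DerivedCategory.isZero_of_isLE (DCoh.inD X G) 0 i hi)
  obtain ⟨M, π, hM, hπ⟩ := hcov G (isQCoh_of_iso' e (isQCohD_of_pc hG 0)) hft
  haveI := hπ
  refine ⟨M, π, hM, hπ, fun k => ?_⟩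
  have hMp : ∀ k, DCoh.IsPseudoCoherentD k (DCoh.inD X M) := fun k =>
    isPseudoCoherentD_iso ((DerivedCategory.singleFunctorIsoCompQ X.Modules 0).app M).symm
      (isPseudoCoherentD_toD (strictlyPerfect_single (hflf _ hM) 0) k)
  have := isPseudoCoherentD_obj₁ (m := k - 1) _ (K0ResLib.kerSC_shortExact π).singleTriangle_distinguished
    (hMp _) (hG _)
  rwa [show k - 1 + 1 = k by omega] at this

/-- Resolve one module. -/
theorem exists_module_resolution {G : X.Modules} (hG : ∀ k, DCoh.IsPseudoCoherentD k (DCoh.inD X G)) (m : ℤ) :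
    ∃ (R : CochainComplex X.Modules ℤ) (π : R ⟶ (C[m]).obj G), (∀ i, A (R.X i)) ∧
      (∀ i, m < i → IsZero (R.X i)) ∧ QuasiIso π := by
  choose M π hM hπ hk using fun G : {G : X.Modules // ∀ k, DCoh.IsPseudoCoherentD k (DCoh.inD X G)} =>
    exists_cover_pc hflf hcov G.2
  let G' : ℕ → {G : X.Modules // ∀ k, DCoh.IsPseudoCoherentD k (DCoh.inD X G)} := fun j =>
    Nat.rec ⟨G, hG⟩ (fun _ H => ⟨kernel (π H), hk H⟩) j
  let d : ∀ j, M (G' (j + 1)) ⟶ M (G' j) := fun j => π (G' (j + 1)) ≫ kernel.ι (π (G' j))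
  have sq : ∀ j, d (j + 1) ≫ d j = 0 := fun j =>
    show (π (G' (j + 1 + 1)) ≫ kernel.ι (π (G' (j + 1)))) ≫ π (G' (j + 1)) ≫ kernel.ι (π (G' j)) = 0 by
      simp
  let c : ChainComplex X.Modules ℕ := ChainComplex.of (fun j => M (G' j)) d sq
  have hcd : ∀ j, c.d (j + 1) j = d j := fun j => ChainComplex.of_d (fun j => M (G' j)) d j
  have hex : ∀ j, c.ExactAt (j + 1) := fun j => by
    rw [HomologicalComplex.exactAt_iff' _ (j + 1 + 1) (j + 1) j (by simp) (by simp)]
    show (ShortComplex.mk (c.d (j + 1 + 1) (j + 1)) (c.d (j + 1) j) _).Exact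
    simp only [hcd]
    haveI := hπ (G' (j + 1 + 1))
    let T : ShortComplex X.Modules :=
      ShortComplex.mk (d (j + 1)) (π (G' (j + 1))) (by simp [d])
    let φ : T ⟶ ShortComplex.mk (kernel.ι (π (G' (j + 1)))) (π (G' (j + 1))) (kernel.condition _) :=
      { τ₁ := π (G' (j + 1 + 1))
        τ₂ := 𝟙 _
        τ₃ := 𝟙 _
        comm₁₂ := (Category.comp_id _).symm
        comm₂₃ := (Category.id_comp _).trans (Category.comp_id _).symm }
    let ψ : T ⟶ ShortComplex.mk (d (j + 1)) (d j) (sq j) :=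
      { τ₁ := 𝟙 _
        τ₂ := 𝟙 _
        τ₃ := kernel.ι (π (G' j))
        comm₁₂ := (Category.id_comp _).trans (Category.comp_id _).symm
        comm₂₃ := Category.id_comp _ }
    haveI : Epi φ.τ₁ := inferInstanceAs (Epi (π (G' (j + 1 + 1))))
    haveI : IsIso φ.τ₂ := inferInstanceAs (IsIso (𝟙 _))
    haveI : Mono φ.τ₃ := inferInstanceAs (Mono (𝟙 _))
    haveI : Epi ψ.τ₁ := inferInstanceAs (Epi (𝟙 _))
    haveI : IsIso ψ.τ₂ := inferInstanceAs (IsIso (𝟙 _))
    haveI : Mono ψ.τ₃ := inferInstanceAs (Mono (kernel.ι (π (G' j))))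
    exact (ShortComplex.exact_iff_of_epi_of_isIso_of_mono ψ).1
      ((ShortComplex.exact_iff_of_epi_of_isIso_of_mono φ).2
        (ShortComplex.exact_of_f_is_kernel _ (kernelIsKernel _)))
  let em := ComplexShape.embeddingUpIntLE m
  have h0 : em.f 0 = m := by simp [em]
  let R := c.extend em
  let p : R.X m ⟶ G := (c.extendXIso em h0).hom ≫ π (G' 0)
  haveI : Epi p := by haveI := hπ (G' 0); exact epi_comp _ _
  have hz : ∀ i, m < i → IsZero (R.X i) := fun i hi =>
    c.isZero_extend_X em i fun j hj => by simp [em] at hj; omega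
  have h1 : em.f 1 = m - 1 := by simp [em]
  have hp : R.d (m - 1) m ≫ p = 0 := by
    simp [R, p, c.extend_d_eq em h1 h0, hcd 0, d]
  let ρ : R ⟶ (C[m]).obj G := HomologicalComplex.mkHomToSingle p fun i hi => by
    obtain rfl : i = m - 1 := by simp at hi; omega
    exact hp
  refine ⟨R, ρ, fun i => ?_, hz, ⟨fun i => ?_⟩⟩
  · rcases le_or_gt i m with hi | hi
    · exact hiso (c.extendXIso em (show em.f (m - i).toNat = i by simp [em]; omega)).symm (hM _)
    · exact hzero _ (hz i hi)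
  · rcases lt_trichotomy i m with hi | rfl | hi
    · refine (quasiIsoAt_iff_exactAt ρ i ?_).2 (HomologicalComplex.exactAt_single_obj _ _ _ _ (by omega))
      obtain ⟨j, hj⟩ : ∃ j : ℕ, em.f (j + 1) = i := ⟨(m - i - 1).toNat, by simp [em]; omega⟩
      exact (c.extend_exactAt_iff em hj).2 (hex j)
    · rw [quasiIsoAt_iff' ρ (i - 1) i (i + 1) (by simp) (by simp),
        ShortComplex.quasiIso_iff_of_zeros' _ ((hz (i + 1) (by omega)).eq_of_tgt _ _)
          ((HomologicalComplex.isZero_single_obj_X (ComplexShape.up ℤ) i G (i - 1) (by omega)).eq_of_src _ _)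
          ((HomologicalComplex.isZero_single_obj_X (ComplexShape.up ℤ) i G (i + 1) (by omega)).eq_of_tgt _ _)]
      have hρ : ρ.f i = p ≫ (HomologicalComplex.singleObjXSelf (ComplexShape.up ℤ) i G).inv :=
        HomologicalComplex.mkHomToSingle_f _ _
      refine ⟨?_, show Epi (ρ.f i) by rw [hρ]; infer_instance⟩
      have hs : (ShortComplex.mk (d 0) (π (G' 0)) (by simp [d])).Exact := by
        haveI := hπ (G' 1)
        let φ : ShortComplex.mk (d 0) (π (G' 0)) (by simp [d]) ⟶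
            ShortComplex.mk (kernel.ι (π (G' 0))) (π (G' 0)) (kernel.condition _) :=
          { τ₁ := π (G' 1)
            τ₂ := 𝟙 _
            τ₃ := 𝟙 _
            comm₁₂ := (Category.comp_id _).symm
            comm₂₃ := (Category.id_comp _).trans (Category.comp_id _).symm }
        haveI : Epi φ.τ₁ := inferInstanceAs (Epi (π (G' 1)))
        haveI : IsIso φ.τ₂ := inferInstanceAs (IsIso (𝟙 _))
        haveI : Mono φ.τ₃ := inferInstanceAs (Mono (𝟙 _))
        exact (ShortComplex.exact_iff_of_epi_of_isIso_of_mono φ).2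
          (ShortComplex.exact_of_f_is_kernel _ (kernelIsKernel _))
      refine ShortComplex.exact_of_iso (ShortComplex.isoMk (c.extendXIso em h1).symm (c.extendXIso em h0).symm
        (HomologicalComplex.singleObjXSelf (ComplexShape.up ℤ) i G).symm ?_ ?_) hs
      · show (c.extendXIso em h1).inv ≫ R.d (i - 1) i = d 0 ≫ (c.extendXIso em h0).inv
        simp [R, c.extend_d_eq em h1 h0, hcd 0]
      · show (c.extendXIso em h0).inv ≫ ρ.f i = π (G' 0) ≫ (HomologicalComplex.singleObjXSelf (ComplexShape.up ℤ) i G).inv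
        rw [hρ]
        simp [p]
    · exact (quasiIsoAt_iff_exactAt ρ i (ShortComplex.exact_of_isZero_X₂ _ (hz i hi))).2
        (HomologicalComplex.exactAt_single_obj _ _ _ _ (by omega))

theorem exists_resolution_of_pc {K : DCoh.D X} (hK : ∀ k, DCoh.IsPseudoCoherentD k K) (lo hi : ℤ) [K.IsGE lo]
    [K.IsLE hi] :
    ∃ (F : CochainComplex X.Modules ℤ) (c : ℤ), (∀ i, c < i → IsZero (F.X i)) ∧ (∀ i, A (F.X i)) ∧
      Nonempty (DCoh.toD X F ≅ K) := by
  obtain ⟨p, hp⟩ : ∃ p : ℕ, hi + 1 - (p : ℤ) ≤ lo + 1 := ⟨(hi - lo).toNat, by omega⟩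
  obtain ⟨m, hm⟩ : ∃ m, hi + 1 - (p : ℤ) = m := ⟨_, rfl⟩
  obtain ⟨E, D, f, g, h, hE, hEA, hT, hD⟩ := hasStage hflf hiso hzero hcov hK lo hi p
  rw [hm] at hE hD hp
  haveI := hD
  haveI : E.IsStrictlyGE m := (CochainComplex.isStrictlyGE_iff _ _).2 fun i hi => hE i (Or.inl hi)
  haveI : (K⟦(-1 : ℤ)⟧).IsGE m := isGE_shift' K lo (-1) m (by omega)
  haveI : D.IsGE m := (tX).isGE₂ _ (inv_rot_of_distTriang _ hT) m
    (inferInstanceAs ((K⟦(-1 : ℤ)⟧).IsGE m)) ((DerivedCategory.isGE_Q_obj_iff E m).2 inferInstance)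
  obtain ⟨G, ⟨eG⟩⟩ := DerivedCategory.exists_iso_singleFunctor_obj_of_isGE_of_isLE D m
  have hG : ∀ k, DCoh.IsPseudoCoherentD k (DCoh.inD X G) := fun k =>
    isPseudoCoherentD_iso ((shiftFunctor _ m).mapIso eG ≪≫ singleShiftIso m 0 m (add_zero m) G)
      (isPseudoCoherentD_shift (pc_fiber hflf hE hEA hK hT (k + m)) m (by omega))
  obtain ⟨R, π, hRA, hRz, hπ⟩ := exists_module_resolution hflf hiso hzero hcov hG m
  haveI := hπ
  let e : DerivedCategory.Q.obj ((C[m]).obj G) ≅ D :=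
    ((DerivedCategory.singleFunctorIsoCompQ X.Modules m).app G).symm ≪≫ eG.symm
  obtain ⟨γ, hγ⟩ := exists_chainMap G m E (e.hom ≫ f)
  haveI : IsIso (DerivedCategory.Q.map π) := inferInstance
  refine ⟨CochainComplex.mappingCone (π ≫ γ), max hi m, fun i hii => ?_, fun i => ?_,
    ⟨Triangle.π₃.mapIso (isoTriangleOfIso₁₂ _ _ (DerivedCategory.mappingCone_triangle_distinguished (π ≫ γ)) hT
      (asIso (DerivedCategory.Q.map π) ≪≫ e) (Iso.refl _)
      ((Category.comp_id _).trans (by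
        show DerivedCategory.Q.map (π ≫ γ) = (DerivedCategory.Q.map π ≫ e.hom) ≫ f
        rw [Functor.map_comp, hγ, Category.assoc])))⟩⟩
  · exact IsZero.of_iso ((biprod_isZero_iff _ _).2 ⟨hRz _ (by omega), hE i (by omega)⟩)
      (HomologicalComplex.homotopyCofiber.XIsoBiprod (π ≫ γ) i (i + 1) rfl)
  · rcases lt_or_ge i m with hi' | hi'
    · exact hiso (isoBiprodZero (hE i (Or.inl hi')) ≪≫
        (HomologicalComplex.homotopyCofiber.XIsoBiprod (π ≫ γ) i (i + 1) rfl).symm) (hRA _)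
    · exact hiso (isoZeroBiprod (hRz _ (by omega)) ≪≫
        (HomologicalComplex.homotopyCofiber.XIsoBiprod (π ≫ γ) i (i + 1) rfl).symm) (hEA i)

end

end Groth.Agent.ResDerLib
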