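import Mathlib.Algebra.Homology.HomotopyCategory.Pretriangulated
import Mathlib.Algebra.Homology.HomotopyCategory.HomComplexSingle
import Mathlib.Algebra.Homology.ShortComplex.Abelian
import Mathlib.CategoryTheory.Abelian.Refinements

/-!
# Attaching a cell to the source of a mapping cone
-/

set_option autoImplicit false
set_option linter.style.haveILetI false
set_option backward.isDefEq.respectTransparency false

universe v u

open CategoryTheory CategoryTheory.Limits CochainComplex CochainComplex.HomComplex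

noncomputable section

namespace Groth.Agent.ResDerLib

variable {A : Type u} [Category.{v} A] [Abelian A] {E F : CochainComplex A ℤ}

theorem isIso_inr_f (φ : E ⟶ F) (q : ℤ) (h : IsZero (E.X (q + 1))) :
    IsIso ((mappingCone.inr φ).f q) :=
  ⟨(mappingCone.snd φ).v q q (add_zero q), by simp, by
    rw [mappingCone.ext_from_iff φ (q + 1) q rfl]
    exact ⟨h.eq_of_src _ _, by simp⟩⟩

theorem isIso_inl_v (φ : E ⟶ F) (p q : ℤ) (hpq : p + (-1) = q) (h : IsZero (F.X q)) :
    IsIso ((mappingCone.inl φ).v p q hpq) :=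
  ⟨(mappingCone.fst φ).1.v q p (by omega), by simp, by
    rw [mappingCone.ext_from_iff φ p q (by omega)]
    exact ⟨by simp, h.eq_of_src _ _⟩⟩

/-- Epimorphisms on homology from degreewise isomorphisms. -/
theorem epi_homologyMap_of_isIso {K L : CochainComplex A ℤ} (f : K ⟶ L) (i : ℤ) [IsIso (f.f i)]
    [Mono (f.f (i + 1))] : Epi (HomologicalComplex.homologyMap f i) := by
  let s : L.cycles i ⟶ K.cycles i := K.liftCycles (L.iCycles i ≫ inv (f.f i)) (i + 1) (by simp) (by
    rw [← cancel_mono (f.f (i + 1)), Category.assoc, Category.assoc, ← f.comm, zero_comp,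
      IsIso.inv_hom_id_assoc, L.iCycles_d])
  haveI : Epi (HomologicalComplex.cyclesMap f i) := by
    haveI : IsSplitEpi (HomologicalComplex.cyclesMap f i) := ⟨⟨⟨s, by
      rw [← cancel_mono (L.iCycles i)]
      simp [s]⟩⟩⟩
    infer_instance
  haveI : Epi (K.homologyπ i ≫ HomologicalComplex.homologyMap f i) := by
    rw [HomologicalComplex.homologyπ_naturality]
    infer_instance
  exact epi_of_epi (K.homologyπ i) _

variable (φ : E ⟶ F) (V : A) {m : ℤ} (vE : V ⟶ E.X m) (h₁ : vE ≫ E.d m (m + 1) = 0)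

/-- The attaching map of the cell. -/
def cellMap : (HomologicalComplex.single A (ComplexShape.up ℤ) m).obj V ⟶ E :=
  HomologicalComplex.mkHomFromSingle (-vE) fun k hk => by
    obtain rfl : m + 1 = k := hk
    rw [Preadditive.neg_comp, h₁, neg_zero]

/-- The source with the cell attached. -/
abbrev cellSrc : CochainComplex A ℤ := mappingCone (cellMap V vE h₁)

variable {n : ℤ} (hn : m + (-1) = n) (vF : V ⟶ F.X n) (h₂ : vF ≫ F.d n m + vE ≫ φ.f m = 0)

/-- The map out of the enlarged source. -/
def cellExt : cellSrc V vE h₁ ⟶ F :=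
  mappingCone.desc _ (Cochain.fromSingleMk vF hn) φ (by
    rw [Cochain.δ_fromSingleMk vF hn 0 m (add_zero m)]
    ext p
    by_cases hp : p = m
    · subst hp
      rw [Cochain.fromSingleMk_v, eq_neg_of_add_eq_zero_left h₂]
      simp [cellMap]
    · exact (HomologicalComplex.isZero_single_obj_X _ _ _ _ hp).eq_of_src _ _)

theorem inr_cellExt : mappingCone.inr (cellMap V vE h₁) ≫ cellExt φ V vE h₁ hn vF h₂ = φ := by
  simp [cellExt]

/-- The map of cones. -/
def coneMap : mappingCone φ ⟶ mappingCone (cellExt φ V vE h₁ hn vF h₂) :=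
  mappingCone.map φ _ (mappingCone.inr _) (𝟙 F) (by rw [Category.comp_id, inr_cellExt])

theorem isIso_coneMap_f (i : ℤ) (h : i + 2 ≠ m) : IsIso ((coneMap φ V vE h₁ hn vF h₂).f i) := by
  haveI := isIso_inr_f (cellMap V vE h₁) (i + 1) (HomologicalComplex.isZero_single_obj_X _ _ _ _ (by omega))
  let r := (mappingCone.inr (cellMap V vE h₁)).f (i + 1)
  refine ⟨(mappingCone.fst (cellExt φ V vE h₁ hn vF h₂)).1.v i (i + 1) rfl ≫ inv r ≫
      (mappingCone.inl φ).v (i + 1) i (by omega) +
    (mappingCone.snd (cellExt φ V vE h₁ hn vF h₂)).v i i (add_zero i) ≫ (mappingCone.inr φ).f i, ?_, ?_⟩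
  · rw [mappingCone.ext_from_iff φ (i + 1) i rfl]
    constructor
    · simp [coneMap, mappingCone.map, r]
    · simp [coneMap, mappingCone.map]
  · rw [mappingCone.ext_from_iff _ (i + 1) i rfl]
    constructor
    · simp [coneMap, mappingCone.map, r]
    · simp [coneMap, mappingCone.map]

/-- The cell as a class in the old cone. -/
def cellClass : V ⟶ (mappingCone φ).X n :=
  vE ≫ (mappingCone.inl φ).v m n hn + vF ≫ (mappingCone.inr φ).f n

/-- The cell in the new cone. -/
def cellTop {l : ℤ} (hl : n + (-1) = l) : V ⟶ (mappingCone (cellExt φ V vE h₁ hn vF h₂)).X l :=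
  (HomologicalComplex.singleObjXSelf (ComplexShape.up ℤ) m V).inv ≫
    (mappingCone.inl (cellMap V vE h₁)).v m n hn ≫
    (mappingCone.inl (cellExt φ V vE h₁ hn vF h₂)).v n l hl

theorem cellTop_d {l : ℤ} (hl : n + (-1) = l) :
    cellTop φ V vE h₁ hn vF h₂ hl ≫ (mappingCone (cellExt φ V vE h₁ hn vF h₂)).d l n =
      cellClass φ V vE hn vF ≫ (coneMap φ V vE h₁ hn vF h₂).f n := by
  have hd : (mappingCone.inl (cellMap V vE h₁)).v m n hn ≫ (cellSrc V vE h₁).d n m =
      (cellMap V vE h₁).f m ≫ (mappingCone.inr (cellMap V vE h₁)).f m := by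
    rw [mappingCone.inl_v_d _ m n (m + 1) hn (by omega)]
    simp
  simp only [cellTop, Category.assoc]
  rw [mappingCone.inl_v_d _ n l m hl hn]
  simp only [Preadditive.comp_sub, ← Category.assoc ((mappingCone.inl (cellMap V vE h₁)).v m n hn), hd]
  simp [cellClass, coneMap, mappingCone.map, cellExt, cellMap, sub_eq_add_neg, add_comm]

end Groth.Agent.ResDerLib
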