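import Groth.Agent.ResDerLib.Kill
import Groth.Agent.FilDLib.Triang
import Mathlib.Algebra.Homology.Factorizations.CM5a

/-!
# Morphisms in the derived category out of strictly perfect complexes, computed in the homotopy category
-/

set_option autoImplicit false
set_option linter.style.haveILetI false
set_option backward.isDefEq.respectTransparency false

universe u

open CategoryTheory CategoryTheory.Limits AlgebraicGeometry TopologicalSpace Abelian
open CategoryTheory.Pretriangulated
open Groth.Agent.DCohLib Groth.Agent.DCohMore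

attribute [local instance] HasDerivedCategory.standard

noncomputable section

namespace Groth.Agent.ResDerLib

variable {X : Scheme.{u}}

/-- Cocycles valued in acyclic complexes with acyclic terms are coboundaries. -/
theorem exists_lift_cycle {C : CochainComplex X.Modules ℤ} (a n : ℤ) (hC : ∀ i, i < a → IsZero (C.X i))
    (hex : ∀ i, C.ExactAt i) (hA : ∀ i, i < n - 1 → Acy (C.X i)) {V : X.Modules} (hV : FlatMod.IsFinLocFree V)
    (f : V ⟶ C.X n) (hf : f ≫ C.d n (n + 1) = 0) : ∃ g : V ⟶ C.X (n - 1), g ≫ C.d (n - 1) n = f := by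
  by_cases hn : n < a
  · exact ⟨0, by rw [zero_comp]; exact (hC n hn).eq_of_tgt _ _⟩
  obtain ⟨m, rfl⟩ : ∃ m, n = m + 1 := ⟨n - 1, by omega⟩
  have key : ∀ k : ℕ, a - 1 + k ≤ m → ∀ p : ℕ,
      Subsingleton (Ext.{u} V (kernel (C.d (a - 1 + k) (a - 1 + k + 1))) (p + 1)) := by
    intro k
    induction k with
    | zero =>
      exact fun _ p => acy_of_isZero (IsZero.of_mono (kernel.ι _) (hC _ (by push_cast; omega))) V hV p
    | succ k ih =>
      intro hk p
      have hS := shortExact_cyclesAt C (a - 1 + k) (hex _)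
      have e : a - 1 + ((k + 1 : ℕ) : ℤ) = a - 1 + k + 1 := by push_cast; omega
      rw [e]
      refine subsingleton_of_forall_eq 0 fun x => ?_
      obtain ⟨y, hy⟩ := Ext.covariant_sequence_exact₃ _ hS x (rfl : p + 1 + 1 = p + 1 + 1)
        ((ih (by push_cast at hk; omega) (p + 1)).elim _ _)
      rw [← hy, (hA (a - 1 + k) (by push_cast at hk; omega) V hV p).elim y 0, Ext.zero_comp]
  obtain ⟨k, hk⟩ : ∃ k : ℕ, a - 1 + k = m := ⟨(m - (a - 1)).toNat, by omega⟩
  have hS := shortExact_cyclesAt C m (hex _)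
  have hz := key k hk.le 0
  rw [hk] at hz
  obtain ⟨y, hy⟩ := Ext.covariant_sequence_exact₃ _ hS (Ext.mk₀ (kernel.lift _ f hf)) (zero_add 1)
    (hz.elim _ _)
  obtain ⟨g, rfl⟩ := (Ext.mk₀_bijective _ _).2 y
  rw [Ext.mk₀_comp_mk₀] at hy
  have hg := (Ext.mk₀_bijective _ _).1 hy
  have hg' := congrArg (· ≫ kernel.ι _) hg
  simp only [Category.assoc, kernel.lift_ι] at hg'
  refine ⟨g ≫ eqToHom (congrArg C.X (by omega : m = m + 1 - 1)), ?_⟩
  have h3 : ∀ m', m' = m → ∀ e : C.X m = C.X m', (g ≫ eqToHom e) ≫ C.d m' (m + 1) = f := by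
    rintro m' rfl e
    rw [eqToHom_refl, Category.comp_id]
    exact hg'
  exact h3 _ (by omega) _

/-- Maps from strictly perfect complexes into acyclic complexes with acyclic terms are null-homotopic. -/
theorem homotopic_zero {G C : CochainComplex X.Modules ℤ} (c d a : ℤ) (hG : DCoh.VanishesOutside G c d)
    (hGf : ∀ i, FlatMod.IsFinLocFree (G.X i)) (hC : ∀ i, i < a → IsZero (C.X i)) (hex : ∀ i, C.ExactAt i)
    (hA : ∀ i, i < d - 1 → Acy (C.X i)) (u : G ⟶ C) : Nonempty (Homotopy u 0) := by
  have H : ∀ k : ℕ, ∃ h : ∀ p q, G.X p ⟶ C.X q, ∀ i, d + 1 - k ≤ i →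
      u.f i = G.d i (i + 1) ≫ h (i + 1) i + h i (i - 1) ≫ C.d (i - 1) i := by
    intro k
    induction k with
    | zero => exact ⟨fun _ _ => 0, fun i hi => (hG i (Or.inr (by push_cast at hi; omega))).eq_of_src _ _⟩
    | succ k ih =>
      obtain ⟨h, hh⟩ := ih
      let j : ℤ := d - k
      let r : G.X j ⟶ C.X j := u.f j - G.d j (j + 1) ≫ h (j + 1) j
      have hr : r ≫ C.d j (j + 1) = 0 := by
        have h1 := hh (j + 1) (by simp only [j]; omega)
        rw [Preadditive.sub_comp, sub_eq_zero, u.comm, h1, Category.assoc, Preadditive.comp_add,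
          HomologicalComplex.d_comp_d_assoc, zero_comp, zero_add]
        have h2 : ∀ m', m' = j → G.d j (j + 1) ≫ h (j + 1) m' ≫ C.d m' (j + 1) =
            G.d j (j + 1) ≫ h (j + 1) j ≫ C.d j (j + 1) := by rintro m' rfl; rfl
        exact h2 _ (by omega)
      obtain ⟨g, hg⟩ := exists_lift_cycle a j hC hex (fun i hi => hA i (by simp only [j] at hi; omega))
        (hGf j) r hr
      refine ⟨fun p q => if hpq : p = j ∧ q = j - 1 then
        eqToHom (congrArg G.X hpq.1) ≫ g ≫ eqToHom (congrArg C.X hpq.2.symm) else h p q, fun i hi => ?_⟩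
      dsimp only
      rw [dif_neg (by simp only [j]; push_cast at hi; omega)]
      by_cases hij : i = j
      · subst hij
        rw [dif_pos ⟨rfl, rfl⟩, eqToHom_refl, eqToHom_refl, Category.id_comp, Category.comp_id, hg]
        simp [r]
      · rw [dif_neg (fun h' => hij h'.1)]
        exact hh i (by simp only [j] at hij; push_cast at hi; omega)
  obtain ⟨k, hk⟩ : ∃ k : ℕ, d + 1 - k ≤ c := ⟨(d + 1 - c).toNat, by omega⟩
  obtain ⟨h, hh⟩ := H k
  refine ⟨{ hom := fun p q => if q + 1 = p then h p q else 0,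
            zero := fun p q hpq => if_neg hpq, comm := fun i => ?_ }⟩
  rw [dNext_eq _ (rfl : (ComplexShape.up ℤ).Rel i (i + 1)),
    prevD_eq _ (show (ComplexShape.up ℤ).Rel (i - 1) i from sub_add_cancel i 1), if_pos rfl,
    if_pos (sub_add_cancel i 1), HomologicalComplex.zero_f, add_zero]
  rcases lt_or_ge i c with hi | hi
  · exact (hG i (Or.inl hi)).eq_of_src _ _
  · exact hh i (by omega)

/-- Morphisms in the derived category from a strictly perfect complex into a complex with acyclic terms
are homotopy classes of chain maps. -/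
theorem bijective_Qh_map {G J : CochainComplex X.Modules ℤ} (c d a : ℤ) (hG : DCoh.VanishesOutside G c d)
    (hGf : ∀ i, FlatMod.IsFinLocFree (G.X i)) (hJ : ∀ i, i < a → IsZero (J.X i))
    (hA : ∀ i, i ≤ d + 1 → Acy (J.X i)) :
    Function.Bijective (DerivedCategory.Qh.map :
      ((HomotopyCategory.quotient X.Modules (ComplexShape.up ℤ)).obj G ⟶
        (HomotopyCategory.quotient X.Modules (ComplexShape.up ℤ)).obj J) → _) := by
  haveI : EnoughInjectives X.Modules := SiteBase.enoughInjectives_sheafOfModules _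
  haveI : J.IsStrictlyGE a := (CochainComplex.isStrictlyGE_iff _ _).2 hJ
  obtain ⟨I, ι, hι, hI, hIa⟩ := CochainComplex.Plus.modelCategoryQuillen.exists_quasiIso_injective J a
  haveI := hι
  haveI := hI
  haveI := hIa
  haveI : I.IsKInjective := CochainComplex.isKInjective_of_injective I a
  let Q' := HomotopyCategory.quotient X.Modules (ComplexShape.up ℤ)
  let C := CochainComplex.mappingCone ι
  have hex : ∀ i, C.ExactAt i := fun i => FilDLib.exactAt_mappingCone_of_quasiIso ι i
  have hCz : ∀ i, i < a - 1 → IsZero (C.X i) := fun i hi =>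
    IsZero.of_iso ((biprod_isZero_iff _ _).2 ⟨hJ (i + 1) (by omega), I.isZero_of_isStrictlyGE a i (by omega)⟩)
      (HomologicalComplex.homotopyCofiber.XIsoBiprod ι i (i + 1) rfl)
  have hCA : ∀ i, i ≤ d → Acy (C.X i) := fun i hi =>
    let e := HomologicalComplex.homotopyCofiber.XIsoBiprod ι i (i + 1) rfl
    acy_of_retract e.hom e.inv e.hom_inv_id (acy_biprod (hA (i + 1) (by omega))
      fun V _ n => Ext.subsingleton_of_injective V (I.X i) n)
  have hvan : ∀ (n : ℤ), n ≤ 0 → ∀ w : Q'.obj G ⟶ Q'.obj (C⟦n⟧), w = 0 := fun n hn w => by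
    obtain ⟨w, rfl⟩ := Q'.map_surjective w
    obtain ⟨hw⟩ := homotopic_zero (C := C⟦n⟧) c d (a - 1 - n) hG hGf (fun i hi => hCz (i + n) (by omega))
      (fun i => (HomologicalComplex.exactAt_iff_isZero_homology _ _).2
        (((HomologicalComplex.exactAt_iff_isZero_homology _ _).1 (hex (n + i))).of_iso
          (((HomologicalComplex.homologyFunctor _ _ 0).shiftIso n i (n + i) rfl).app C)))
      (fun i hi => hCA (i + n) (by omega)) w
    exact (HomotopyCategory.eq_of_homotopy _ _ hw).trans (Functor.map_zero _ _ _)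
  have hT := HomotopyCategory.mappingCone_triangleh_distinguished ι
  haveI : IsIso (DerivedCategory.Q.map ι) := inferInstance
  haveI : IsIso (DerivedCategory.Qh.map (Q'.map ι)) :=
    (NatIso.isIso_map_iff (DerivedCategory.quotientCompQhIso X.Modules) ι).2 inferInstance
  have hb := CochainComplex.IsKInjective.Qh_map_bijective (Q'.obj G) I
  refine ⟨fun v v' hv => ?_, fun w => ?_⟩
  · rw [← sub_eq_zero] at hv ⊢
    rw [← Functor.map_sub] at hv
    have h0 : (v - v') ≫ Q'.map ι = 0 := hb.1 (by
      rw [Functor.map_comp, hv, zero_comp, Functor.map_zero])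
    obtain ⟨g, hg⟩ := Triangle.coyoneda_exact₂ _ (inv_rot_of_distTriang _ hT) (v - v') h0
    have hg0 : g ≫ ((Q'.commShiftIso (-1 : ℤ)).app C).inv = 0 := hvan (-1) (by omega) _
    rw [hg, show g = 0 by rwa [← zero_comp (f := ((Q'.commShiftIso (-1 : ℤ)).app C).inv), cancel_mono] at hg0,
      zero_comp]
  · obtain ⟨u, hu⟩ := hb.2 (w ≫ DerivedCategory.Qh.map (Q'.map ι))
    have h0 : u ≫ Q'.map (CochainComplex.mappingCone.inr ι) = 0 := by
      have h := hvan 0 le_rfl ((u ≫ Q'.map (CochainComplex.mappingCone.inr ι)) ≫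
        Q'.map ((shiftFunctorZero (CochainComplex X.Modules ℤ) ℤ).inv.app C))
      rwa [← zero_comp (f := Q'.map ((shiftFunctorZero (CochainComplex X.Modules ℤ) ℤ).inv.app C)), cancel_mono] at h
    obtain ⟨g, hg⟩ := Triangle.coyoneda_exact₂ _ hT u h0
    refine ⟨g, ?_⟩
    rw [← cancel_mono (DerivedCategory.Qh.map (Q'.map ι)), ← Functor.map_comp, ← hu]
    exact congrArg _ hg.symm

end Groth.Agent.ResDerLib
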