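import Groth.Agent.ResDerLib.Perf
import Groth.Agent.DCohLib.PCTop
import Groth.Agent.K0ResLib.Basic
import Groth.Agent.KZeroLib.Heart
import Groth.Agent.KFlat.BddAbove

/-!
# `K₀` of bundles and of perfect complexes under the resolution property
-/

set_option autoImplicit false
set_option linter.style.haveILetI false
set_option backward.isDefEq.respectTransparency false

universe u

open CategoryTheory CategoryTheory.Limits AlgebraicGeometry TopologicalSpace
open CategoryTheory.Pretriangulated
open scoped ZeroObject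
open Groth.Agent.DCohLib Groth.Agent.DCohMore

attribute [local instance] HasDerivedCategory.standard

noncomputable section

namespace Groth.Agent.ResDerLib.KZero

variable {X : Scheme.{u}}

/-- Bundles. -/
abbrev P (X : Scheme.{u}) : ObjectProperty X.Modules := fun M => FlatMod.IsFinLocFree M

/-- Perfect objects. -/
abbrev Q (X : Scheme.{u}) : ObjectProperty (DCoh.D X) := fun K => DCoh.IsPerfect K

theorem cl_isZero {M : X.Modules} (h : IsZero M) : KZero.clSub (P X) M = 0 :=
  Groth.Agent.KZeroLib.clSub_isZero h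

theorem cl_add {S : ShortComplex X.Modules} (hS : S.ShortExact) (h₁ : P X S.X₁) (h₂ : P X S.X₂) (h₃ : P X S.X₃) :
    KZero.clSub (P X) S.X₂ = KZero.clSub (P X) S.X₁ + KZero.clSub (P X) S.X₃ := K0ResLib.clSub_add hS h₁ h₂ h₃

theorem cl_iso {M N : X.Modules} (e : M ≅ N) (hM : P X M) : KZero.clSub (P X) N = KZero.clSub (P X) M := by
  have hz : IsZero (kernel e.hom) := isZero_kernel_of_mono e.hom
  have h := cl_add (K0ResLib.kerSC_shortExact e.hom) (isFinLocFree_of_isZero hz) hM (isFinLocFree_iso e hM)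
  rw [cl_isZero hz, zero_add] at h
  exact h.symm

theorem cl_biprod {M N : X.Modules} (hM : P X M) (hN : P X N) :
    KZero.clSub (P X) (M ⊞ N) = KZero.clSub (P X) M + KZero.clSub (P X) N :=
  cl_add (ShortComplex.Splitting.ofHasBinaryBiproduct M N).shortExact hM (isFinLocFree_biprod hM hN) hN

/-- The Euler characteristic of a complex. -/
def eul (E : CochainComplex X.Modules ℤ) : KZero.K0sub (P X) :=
  ∑ᶠ i : ℤ, (i.negOnePow : ℤ) • KZero.clSub (P X) (E.X i)

theorem support_finite {E : CochainComplex X.Modules ℤ} (hE : DCoh.IsStrictlyPerfect E) (f : ℤ → ℤ) :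
    (Function.support fun i => f i • KZero.clSub (P X) (E.X i)).Finite := by
  obtain ⟨⟨a, b, hab⟩, -⟩ := hE
  refine (Finset.Icc a b).finite_toSet.subset fun i hi => ?_
  by_contra hne
  simp only [Finset.coe_Icc, Set.mem_Icc, not_and_or, not_le] at hne
  exact hi (show f i • KZero.clSub (P X) (E.X i) = 0 by rw [cl_isZero (hab i hne), smul_zero])

theorem sum_shift (f : ℤ → KZero.K0sub (P X)) :
    ∑ᶠ i : ℤ, (i.negOnePow : ℤ) • f (i + 1) = -∑ᶠ i : ℤ, (i.negOnePow : ℤ) • f i := by
  rw [← finsum_neg_distrib, ← finsum_comp_equiv (Equiv.addRight (1 : ℤ)) (f := fun i => -((i.negOnePow : ℤ) • f i))]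
  refine finsum_congr fun i => ?_
  show _ = -(((i + 1).negOnePow : ℤ) • f (i + 1))
  rw [Int.negOnePow_succ, Units.val_neg, neg_smul, neg_neg]

theorem eul_mappingCone {M N : CochainComplex X.Modules ℤ} (f : M ⟶ N) (hM : DCoh.IsStrictlyPerfect M)
    (hN : DCoh.IsStrictlyPerfect N) :
    eul (CochainComplex.mappingCone f) = eul N - eul M := by
  have hsM : (Function.support fun i : ℤ => (i.negOnePow : ℤ) • KZero.clSub (P X) (M.X (i + 1))).Finite := by
    obtain ⟨⟨a, b, hab⟩, -⟩ := hM
    refine (Finset.Icc (a - 1) (b - 1)).finite_toSet.subset fun i hi => ?_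
    by_contra hne
    simp only [Finset.coe_Icc, Set.mem_Icc, not_and_or, not_le] at hne
    exact hi (show (i.negOnePow : ℤ) • KZero.clSub (P X) (M.X (i + 1)) = 0 by
      rw [cl_isZero (hab _ (by omega)), smul_zero])
  have h : ∀ i : ℤ, (i.negOnePow : ℤ) • KZero.clSub (P X) ((CochainComplex.mappingCone f).X i) =
      (i.negOnePow : ℤ) • KZero.clSub (P X) (M.X (i + 1)) + (i.negOnePow : ℤ) • KZero.clSub (P X) (N.X i) := fun i => by
    rw [show KZero.clSub (P X) ((CochainComplex.mappingCone f).X i) = _ from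
      cl_iso (HomologicalComplex.homotopyCofiber.XIsoBiprod f i (i + 1) (by simp)).symm
        (isFinLocFree_biprod (hM.2 _) (hN.2 _)), cl_biprod (hM.2 _) (hN.2 _), smul_add]
  rw [eul, finsum_congr h, finsum_add_distrib hsM (support_finite hN _),
    sum_shift fun i => KZero.clSub (P X) (M.X i), neg_add_eq_sub]
  rfl

theorem eul_acyclic {E : CochainComplex X.Modules ℤ} (hE : DCoh.IsStrictlyPerfect E)
    (h : ∀ i, E.ExactAt i) : eul E = 0 := by
  have hZ : ∀ i : ℤ, P X (E.cycles i) := fun i => exists_cycles_flf hE fun j _ => h j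
  have hX : ∀ i : ℤ, (i.negOnePow : ℤ) • KZero.clSub (P X) (E.X i) =
      (i.negOnePow : ℤ) • KZero.clSub (P X) (E.cycles i) +
      (i.negOnePow : ℤ) • KZero.clSub (P X) (E.cycles (i + 1)) := fun i => by
    rw [show KZero.clSub (P X) (E.X i) = _ from
      cl_add (shortExact_cyclesSeqZ_of_exactAt E i (i + 1) rfl (h _)) (hZ i) (hE.2 i) (hZ (i + 1)), smul_add]
    rfl
  obtain ⟨⟨a, b, hab⟩, -⟩ := hE
  have hz : ∀ i : ℤ, i < a ∨ b < i → IsZero (E.cycles i) := fun i hi => IsZero.of_mono (E.iCycles i) (hab i hi)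
  have hs₁ : (Function.support fun i : ℤ => (i.negOnePow : ℤ) • KZero.clSub (P X) (E.cycles i)).Finite := by
    refine (Finset.Icc a b).finite_toSet.subset fun i hi => ?_
    by_contra hne
    simp only [Finset.coe_Icc, Set.mem_Icc, not_and_or, not_le] at hne
    exact hi (show (i.negOnePow : ℤ) • KZero.clSub (P X) (E.cycles i) = 0 by rw [cl_isZero (hz i hne), smul_zero])
  have hs₂ : (Function.support fun i : ℤ => (i.negOnePow : ℤ) • KZero.clSub (P X) (E.cycles (i + 1))).Finite := by
    refine (Finset.Icc (a - 1) (b - 1)).finite_toSet.subset fun i hi => ?_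
    by_contra hne
    simp only [Finset.coe_Icc, Set.mem_Icc, not_and_or, not_le] at hne
    exact hi (show (i.negOnePow : ℤ) • KZero.clSub (P X) (E.cycles (i + 1)) = 0 by
      rw [cl_isZero (hz (i + 1) (by omega)), smul_zero])
  rw [eul, finsum_congr hX, finsum_add_distrib hs₁ hs₂, sum_shift fun i => KZero.clSub (P X) (E.cycles i),
    add_neg_cancel]

theorem eul_eq_of_isIso {E F : CochainComplex X.Modules ℤ} (hE : DCoh.IsStrictlyPerfect E)
    (hF : DCoh.IsStrictlyPerfect F) (β : E ⟶ F) [IsIso (DerivedCategory.Q.map β)] : eul E = eul F := by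
  have hz : IsZero (DCoh.toD X (CochainComplex.mappingCone β)) :=
    (Triangle.isZero₃_iff_isIso₁ _ (DerivedCategory.mappingCone_triangle_distinguished β)).2
      (show IsIso (DerivedCategory.Q.map β) by infer_instance)
  have h := eul_acyclic (isStrictlyPerfect_mappingCone β hE hF) fun i =>
    (HomologicalComplex.exactAt_iff_isZero_homology _ i).2
      ((((DerivedCategory.homologyFunctor X.Modules i).map_isZero hz)).of_iso
        ((DerivedCategory.homologyFunctorFactors X.Modules i).app _).symm)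
  rw [eul_mappingCone β hE hF, sub_eq_zero] at h
  exact h.symm

variable [CompactSpace X] [QuasiSeparatedSpace X] (hX : PerfAux.HasResolutionProperty X)
include hX

theorem eul_eq_of_iso {E F : CochainComplex X.Modules ℤ} (hE : DCoh.IsStrictlyPerfect E)
    (hF : DCoh.IsStrictlyPerfect F) (e : DCoh.toD X E ≅ DCoh.toD X F) : eul E = eul F := by
  obtain ⟨a, b, hab⟩ := hF.1
  obtain ⟨G, g, h, hG, hg, hgh⟩ := exists_roof hX hE (a := a) (fun i hi => hab i (Or.inl hi))
    (fun i => (PullbackMod.isQCoh_and_isFP_of_isFinLocFree _ (hF.2 i)).1) e.hom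
  haveI := hg
  haveI : IsIso (DerivedCategory.Q.map g) := inferInstance
  haveI : IsIso (DerivedCategory.Q.map h) := by rw [← hgh]; infer_instance
  rw [← eul_eq_of_isIso hG hE g, eul_eq_of_isIso hG hF h]

omit hX in
/-- The Euler characteristic of a perfect object. -/
def chi (K : DCoh.D X) : KZero.K0sub (P X) :=
  open Classical in
  if h : ∃ E : CochainComplex X.Modules ℤ, DCoh.IsStrictlyPerfect E ∧ Nonempty (DCoh.toD X E ≅ K) then
    eul h.choose else 0

theorem chi_eq {K : DCoh.D X} {E : CochainComplex X.Modules ℤ} (hE : DCoh.IsStrictlyPerfect E)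
    (e : DCoh.toD X E ≅ K) : chi K = eul E := by
  have h : ∃ E : CochainComplex X.Modules ℤ, DCoh.IsStrictlyPerfect E ∧ Nonempty (DCoh.toD X E ≅ K) :=
    ⟨E, hE, ⟨e⟩⟩
  rw [chi, dif_pos h]
  exact eul_eq_of_iso hX h.choose_spec.1 hE (h.choose_spec.2.some ≪≫ e.symm)

theorem chi_add (T : Triangle (DCoh.D X)) (hT : T ∈ distTriang _) (h₁ : Q X T.obj₁) (h₂ : Q X T.obj₂) :
    chi T.obj₂ = chi T.obj₁ + chi T.obj₃ := by
  obtain ⟨E, hE, ⟨a⟩⟩ := exists_strictlyPerfect hX _ h₁
  obtain ⟨F, hF, ⟨b⟩⟩ := exists_strictlyPerfect hX _ h₂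
  obtain ⟨c, d, hcd⟩ := hF.1
  obtain ⟨G, g, h, hG, hg, hgh⟩ := exists_roof hX hE (a := c) (fun i hi => hcd i (Or.inl hi))
    (fun i => (PullbackMod.isQCoh_and_isFP_of_isFinLocFree _ (hF.2 i)).1) (a.hom ≫ T.mor₁ ≫ b.inv)
  haveI := hg
  haveI : IsIso (DerivedCategory.Q.map g) := inferInstance
  let i := isoTriangleOfIso₁₂ _ T (DerivedCategory.mappingCone_triangle_distinguished h) hT
    (asIso (DerivedCategory.Q.map g) ≪≫ a) b
    (show DerivedCategory.Q.map h ≫ b.hom = (DerivedCategory.Q.map g ≫ a.hom) ≫ T.mor₁ by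
      rw [← hgh]; simp)
  rw [chi_eq hX hF b, chi_eq hX hG (asIso (DerivedCategory.Q.map g) ≪≫ a),
    show chi T.obj₃ = _ from chi_eq hX (isStrictlyPerfect_mappingCone h hG hF) (Triangle.π₃.mapIso i),
    eul_mappingCone h hG hF]
  abel

/-- From perfect objects to bundles. -/
def toSub : KZero.K0tr (Q X) →+ KZero.K0sub (P X) :=
  QuotientAddGroup.lift _ (FreeAbelianGroup.lift fun K => chi K.1) <| by
    rw [KZero.relTr, AddSubgroup.closure_le]
    rintro x ⟨T, h₁, h₂, h₃, hT, rfl⟩
    simp only [SetLike.mem_coe, AddMonoidHom.mem_ker, map_sub, FreeAbelianGroup.lift_apply_of]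
    rw [sub_sub, sub_eq_zero]
    exact chi_add hX T hT h₁ h₂

theorem toSub_clTr {K : DCoh.D X} (hK : Q X K) : toSub hX (KZero.clTr (Q X) K) = chi K := by
  rw [Groth.Agent.KZeroLib.clTr_of hK]
  exact (QuotientAddGroup.lift_mk' _ _ _).trans (FreeAbelianGroup.lift_apply_of _ _)

omit hX in
theorem eul_single {M : X.Modules} (hM : P X M) (a : ℤ) :
    eul ((CochainComplex.singleFunctor X.Modules a).obj M) = (a.negOnePow : ℤ) • KZero.clSub (P X) M := by
  rw [eul, finsum_eq_single _ a fun i hi => ?_]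
  · rw [show KZero.clSub (P X) (((CochainComplex.singleFunctor X.Modules a).obj M).X a) = KZero.clSub (P X) M from
      cl_iso (HomologicalComplex.singleObjXSelf (ComplexShape.up ℤ) a M).symm hM]
  · rw [show KZero.clSub (P X) (((CochainComplex.singleFunctor X.Modules a).obj M).X i) = 0 from
      cl_isZero (HomologicalComplex.isZero_single_obj_X (ComplexShape.up ℤ) a M i hi), smul_zero]

omit hX in
theorem isPerfect_single₀ {M : X.Modules} (hM : P X M) : Q X (DCoh.inD X M) :=
  isPerfect_iso ((DerivedCategory.singleFunctorIsoCompQ X.Modules 0).app M).symm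
    (isPerfect_toD_of_strictlyPerfect (strictlyPerfect_single hM 0))

theorem chi_single₀ {M : X.Modules} (hM : P X M) : chi (DCoh.inD X M) = KZero.clSub (P X) M := by
  rw [chi_eq hX (strictlyPerfect_single hM 0) ((DerivedCategory.singleFunctorIsoCompQ X.Modules 0).app M).symm,
    eul_single hM, Int.negOnePow_zero, Units.val_one, one_smul]

omit hX in
/-- From bundles to perfect objects. -/
def toTr : KZero.K0sub (P X) →+ KZero.K0tr (Q X) :=
  QuotientAddGroup.lift _ (FreeAbelianGroup.lift fun M => KZero.clTr (Q X) (DCoh.inD X M.1)) <| by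
    rw [KZero.relSub, AddSubgroup.closure_le]
    rintro x ⟨S, h₁, h₂, h₃, hS, rfl⟩
    simp only [SetLike.mem_coe, AddMonoidHom.mem_ker, map_sub, FreeAbelianGroup.lift_apply_of]
    rw [sub_sub, sub_eq_zero]
    exact Groth.Agent.KZeroLib.clTr_add _ hS.singleTriangle_distinguished (isPerfect_single₀ h₁)
      (isPerfect_single₀ h₂) (isPerfect_single₀ h₃)

omit hX in
theorem toTr_clSub {M : X.Modules} (hM : P X M) :
    toTr (KZero.clSub (P X) M) = KZero.clTr (Q X) (DCoh.inD X M) := by
  rw [K0ResLib.clSub_of hM]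
  exact (QuotientAddGroup.lift_mk' _ _ _).trans (FreeAbelianGroup.lift_apply_of _ _)

omit hX in
theorem isPerfect_zero : Q X (0 : DCoh.D X) :=
  isPerfect_iso ((DerivedCategory.Q.map_isZero (isZero_zero _)).iso (isZero_zero _))
    (isPerfect_toD_of_strictlyPerfect (isStrictlyPerfect_zero (0 : CochainComplex X.Modules ℤ)
      fun i => (HomologicalComplex.eval _ _ i).map_isZero (isZero_zero _)))

omit hX in
theorem toTr_eul_single {M : X.Modules} (hM : P X M) (a : ℤ) :
    toTr (eul ((CochainComplex.singleFunctor X.Modules a).obj M)) =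
      KZero.clTr (Q X) (DCoh.toD X ((CochainComplex.singleFunctor X.Modules a).obj M)) := by
  haveI : (Q X).IsClosedUnderIsomorphisms := ⟨fun e h => isPerfect_iso e h⟩
  let e : (DCoh.inD X M)⟦-a⟧ ≅ DCoh.toD X ((CochainComplex.singleFunctor X.Modules a).obj M) :=
    ((DerivedCategory.singleFunctors X.Modules).shiftIso (-a) a 0 (by omega)).app M ≪≫
      (DerivedCategory.singleFunctorIsoCompQ X.Modules a).app M
  have h₀ := isPerfect_single₀ hM
  rw [eul_single hM, map_zsmul, toTr_clSub hM,
    Groth.Agent.KZeroLib.clTr_iso isPerfect_zero e (isPerfect_shift h₀ _)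
      (isPerfect_iso e (isPerfect_shift h₀ _)),
    Groth.Agent.KZeroLib.clTr_shift isPerfect_zero (fun K n h => isPerfect_shift h n) h₀, Int.negOnePow_neg]

omit hX in
theorem toTr_eul {E : CochainComplex X.Modules ℤ} (hE : DCoh.IsStrictlyPerfect E) :
    toTr (eul E) = KZero.clTr (Q X) (DCoh.toD X E) := by
  obtain ⟨⟨a, b, hab⟩, hP⟩ := id hE
  have hB : ∀ n, DCoh.IsStrictlyPerfect (KFlat.brutal E n) := fun n =>
    ⟨⟨a, b, fun i hi => KFlat.isZero_brutal_of_isZero E _ (hab i hi)⟩, fun i => by
      by_cases h : n ≤ i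
      · haveI := KFlat.isIso_incl E n h
        exact isFinLocFree_iso (asIso (KFlat.incl E n i)).symm (hP i)
      · exact isFinLocFree_of_isZero (KFlat.isZero_brutal E _ (by omega))⟩
  have key : ∀ (k : ℕ), toTr (eul (KFlat.brutal E (b + 1 - k))) =
      KZero.clTr (Q X) (DCoh.toD X (KFlat.brutal E (b + 1 - k))) := by
    intro k
    induction k with
    | zero =>
      have hz : ∀ i, IsZero ((KFlat.brutal E (b + 1 - ((0 : ℕ) : ℤ))).X i) := fun i => by
        by_cases hi : i < b + 1
        · exact KFlat.isZero_brutal E _ (by simpa using hi)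
        · exact KFlat.isZero_brutal_of_isZero E _ (hab i (by omega))
      rw [Groth.Agent.KZeroLib.clTr_isZero (DerivedCategory.Q.map_isZero ((IsZero.iff_id_eq_zero _).2
          (HomologicalComplex.hom_ext _ _ fun i => (hz i).eq_of_src _ _)))
          (isPerfect_toD_of_strictlyPerfect (hB _)),
        eul, finsum_eq_zero_of_forall_eq_zero fun i => by rw [cl_isZero (hz i), smul_zero], map_zero]
    | succ k ih =>
      generalize hn : b + 1 - ((k + 1 : ℕ) : ℤ) = n
      rw [show b + 1 - (k : ℤ) = n + 1 by omega] at ih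
      let S := KFlat.brutalShortComplex E n
      let σ := fun i => KFlat.brutalSplitting E n i
      have hS : S.ShortExact := HomologicalComplex.shortExact_of_degreewise_shortExact _ fun i => (σ i).shortExact
      have h3 : DCoh.IsStrictlyPerfect S.X₃ := strictlyPerfect_single (hP n) n
      have hsum : eul (KFlat.brutal E n) = eul (KFlat.brutal E (n + 1)) + eul S.X₃ := by
        rw [eul, eul, eul, ← finsum_add_distrib (support_finite (hB _) _) (support_finite h3 _)]
        refine finsum_congr fun i => ?_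
        rw [← smul_add]
        exact congrArg _ (cl_add (σ i).shortExact ((hB (n + 1)).2 i) ((hB n).2 i) (h3.2 i))
      rw [hsum, map_add, ih, show toTr (eul S.X₃) = _ from toTr_eul_single (hP n) n]
      exact (Groth.Agent.KZeroLib.clTr_add _ (DerivedCategory.triangleOfSES_distinguished hS)
        (isPerfect_toD_of_strictlyPerfect (hB _)) (isPerfect_toD_of_strictlyPerfect (hB _))
        (isPerfect_toD_of_strictlyPerfect h3)).symm
  obtain ⟨k, hk⟩ : ∃ k : ℕ, b + 1 - (k : ℤ) ≤ a := ⟨(b + 1 - a).toNat, by omega⟩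
  haveI : ∀ i, IsIso ((KFlat.brutalι E (b + 1 - k)).f i) := fun i => by
    by_cases hi : b + 1 - (k : ℤ) ≤ i
    · exact KFlat.isIso_incl E _ hi
    · exact ⟨0, (KFlat.isZero_brutal E _ (not_le.1 hi)).eq_of_src _ _, (hab i (by omega)).eq_of_src _ _⟩
  haveI : IsIso (KFlat.brutalι E (b + 1 - k)) := HomologicalComplex.Hom.isIso_of_components _
  let e := DerivedCategory.Q.mapIso (asIso (KFlat.brutalι E (b + 1 - k)))
  rw [← eul_eq_of_isIso (hB _) hE (KFlat.brutalι E (b + 1 - k)), key k,
    Groth.Agent.KZeroLib.clTr_iso isPerfect_zero e (isPerfect_toD_of_strictlyPerfect (hB _))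
      (isPerfect_toD_of_strictlyPerfect hE)]

/-- The equivalence. -/
def equiv : KZero.K0sub (P X) ≃+ KZero.K0tr (Q X) :=
  AddMonoidHom.toAddEquiv toTr (toSub hX)
    (by
      refine QuotientAddGroup.addMonoidHom_ext _ (FreeAbelianGroup.lift_ext _ _ fun M => ?_)
      show toSub hX (toTr (QuotientAddGroup.mk (FreeAbelianGroup.of M))) = QuotientAddGroup.mk (FreeAbelianGroup.of M)
      rw [show (QuotientAddGroup.mk (FreeAbelianGroup.of M) : KZero.K0sub (P X)) = KZero.clSub (P X) M.1 from
        (K0ResLib.clSub_of M.2).symm, toTr_clSub M.2, toSub_clTr hX (isPerfect_single₀ M.2), chi_single₀ hX M.2])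
    (by
      refine QuotientAddGroup.addMonoidHom_ext _ (FreeAbelianGroup.lift_ext _ _ fun K => ?_)
      show toTr (toSub hX (QuotientAddGroup.mk (FreeAbelianGroup.of K))) = QuotientAddGroup.mk (FreeAbelianGroup.of K)
      rw [show (QuotientAddGroup.mk (FreeAbelianGroup.of K) : KZero.K0tr (Q X)) = KZero.clTr (Q X) K.1 from
        (Groth.Agent.KZeroLib.clTr_of K.2).symm, toSub_clTr hX K.2]
      obtain ⟨E, hE, ⟨e⟩⟩ := exists_strictlyPerfect hX _ K.2
      rw [chi_eq hX hE e, toTr_eul hE, Groth.Agent.KZeroLib.clTr_iso isPerfect_zero e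
        (isPerfect_toD_of_strictlyPerfect hE) K.2])

theorem equiv_clSub {M : X.Modules} (hM : P X M) :
    equiv hX (KZero.clSub (P X) M) = KZero.clTr (Q X) (DCoh.inD X M) := toTr_clSub hM

end Groth.Agent.ResDerLib.KZero
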