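import Groth.Agent.ResDerLib.Acy

/-!
# Extension classes are killed by epimorphisms from finite locally free modules, and acyclic embeddings
of complexes
-/

set_option autoImplicit false
set_option linter.style.haveILetI false
set_option backward.isDefEq.respectTransparency false

universe u

open CategoryTheory CategoryTheory.Limits AlgebraicGeometry TopologicalSpace Abelian
open Groth.Agent.DCohLib Groth.Agent.DCohMore

attribute [local instance] HasDerivedCategory.standard

noncomputable section

namespace Groth.Agent.ResDerLib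

/-- A monomorphism of complexes with acyclic cokernel is a quasi-isomorphism. -/
theorem quasiIso_of_acyclic_cokernel {C : Type*} [Category C] [Abelian C]
    {S : ShortComplex (CochainComplex C ℤ)} (hS : S.ShortExact) (h : ∀ i, S.X₃.ExactAt i) : QuasiIso S.f :=
  ⟨fun i => by
    rw [quasiIsoAt_iff_isIso_homologyMap]
    haveI : Mono (HomologicalComplex.homologyMap S.f i) := (hS.homology_exact₁ (i - 1) i (by simp)).mono_g
      (((HomologicalComplex.exactAt_iff_isZero_homology _ _).1 (h (i - 1))).eq_of_src _ _)
    haveI : Epi (HomologicalComplex.homologyMap S.f i) := (hS.homology_exact₂ i).epi_f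
      (((HomologicalComplex.exactAt_iff_isZero_homology _ _).1 (h i)).eq_of_tgt _ _)
    exact isIso_of_mono_of_epi _⟩

variable {X : Scheme.{u}} [CompactSpace X] [QuasiSeparatedSpace X] (hX : PerfAux.HasResolutionProperty X)
include hX

/-- Higher extension classes out of a finite locally free module die on a covering bundle. -/
theorem exists_epi_kill : ∀ (n : ℕ) (V G : X.Modules), FlatMod.IsFinLocFree V → Coh.IsQCoh G →
    ∀ e : Ext.{u} V G (n + 1), ∃ (V' : X.Modules) (π : V' ⟶ V), FlatMod.IsFinLocFree V' ∧ Epi π ∧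
      (Ext.mk₀ π).comp e (zero_add (n + 1)) = 0 := by
  intro n
  induction n with
  | zero =>
    intro V G hV hG e
    obtain ⟨J, ι, hι, hJq, hJ⟩ := exists_mono_acy hX G hG
    let S := ShortComplex.mk ι (cokernel.π ι) (cokernel.condition ι)
    have hS : S.ShortExact := { exact := ShortComplex.exact_cokernel ι }
    obtain ⟨x₃, hx₃⟩ := Ext.covariant_sequence_exact₁ _ hS e ((hJ V hV 0).elim _ _) (zero_add 1)
    obtain ⟨g, rfl⟩ := (Ext.mk₀_bijective V S.X₃).2 x₃
    let h : J ⊞ V ⟶ S.X₃ := biprod.desc (cokernel.π ι) (-g)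
    have hVq := (PullbackMod.isQCoh_and_isFP_of_isFinLocFree _ hV)
    have hQq : Coh.IsQCoh S.X₃ := (QCohLib.isQCoh_image ι hG hJq).2
    have hPq : Coh.IsQCoh (kernel h) := (QCohLib.isQCoh_image h (isQCoh_biprod' hJq hVq.1) hQq).1
    haveI : Epi (kernel.ι h ≫ biprod.snd) := by
      haveI : Epi (cokernel.π ι) := inferInstance
      rw [epi_iff_surjective_up_to_refinements]
      intro A v
      obtain ⟨A', π, hπ, w, hw⟩ := surjective_up_to_refinements_of_epi (cokernel.π ι) (v ≫ g)
      exact ⟨A', π, hπ, kernel.lift h (biprod.lift w (π ≫ v)) (by simp [h, hw]), by simp⟩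
    obtain ⟨V', ψ, hV', hψ⟩ := exists_flf_epi hX hPq hVq.1
      (DCohLib.isFT_of_flf hV) (kernel.ι h ≫ biprod.snd)
    refine ⟨V', ψ ≫ kernel.ι h ≫ biprod.snd, hV', hψ, ?_⟩
    rw [← hx₃, ← Ext.comp_assoc _ _ _ (zero_add 0) (zero_add 1) (by omega), Ext.mk₀_comp_mk₀]
    have hk : (ψ ≫ kernel.ι h ≫ biprod.snd) ≫ g = (ψ ≫ kernel.ι h ≫ biprod.fst) ≫ S.g := by
      have h0 : ψ ≫ kernel.ι h ≫ h = 0 := by rw [kernel.condition, comp_zero]
      rw [← sub_eq_zero, ← neg_eq_zero, ← h0]
      simp [h, S, biprod.desc_eq, sub_eq_add_neg, add_comm]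
    rw [hk, ← Ext.mk₀_comp_mk₀, Ext.comp_assoc _ _ _ (zero_add 0) (zero_add 1) (by omega), hS.comp_extClass,
      Ext.comp_zero]
  | succ n ih =>
    intro V G hV hG e
    obtain ⟨J, ι, hι, hJq, hJ⟩ := exists_mono_acy hX G hG
    let S := ShortComplex.mk ι (cokernel.π ι) (cokernel.condition ι)
    have hS : S.ShortExact := { exact := ShortComplex.exact_cokernel ι }
    obtain ⟨x₃, hx₃⟩ := Ext.covariant_sequence_exact₁ _ hS e ((hJ V hV _).elim _ _) (rfl : n + 1 + 1 = n + 1 + 1)
    obtain ⟨V', π, hV', hπ, h0⟩ := ih V S.X₃ hV (QCohLib.isQCoh_image ι hG hJq).2 x₃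
    refine ⟨V', π, hV', hπ, ?_⟩
    rw [← hx₃, ← Ext.comp_assoc _ _ _ (zero_add (n + 1)) rfl (by omega), h0, Ext.zero_comp]

/-- Complexes of quasi-coherent modules vanishing below a degree embed quasi-isomorphically into ones with
acyclic terms up to any degree. -/
theorem exists_acy_complex (F : CochainComplex X.Modules ℤ) (a : ℤ) (hF : ∀ i, i < a → IsZero (F.X i))
    (hFq : ∀ i, Coh.IsQCoh (F.X i)) : ∀ N : ℕ, ∃ (J : CochainComplex X.Modules ℤ) (φ : F ⟶ J), QuasiIso φ ∧
      (∀ i, i < a → IsZero (J.X i)) ∧ (∀ i, Coh.IsQCoh (J.X i)) ∧ ∀ i, i < a + N → Acy (J.X i) := by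
  intro N
  induction N with
  | zero => exact ⟨F, 𝟙 F, inferInstance, hF, hFq, fun i hi => acy_of_isZero (hF i (by omega))⟩
  | succ N ih =>
    obtain ⟨J, φ, hφ, hJz, hJq, hJ⟩ := ih
    let k : ℤ := a + N
    have hk : (ComplexShape.up ℤ).Rel k (k + 1) := rfl
    have hne : k ≠ k + 1 := by omega
    obtain ⟨A, ι, hι, hAq, hA⟩ := exists_mono_acy hX (J.X k) (hJq k)
    let D₁ := HomologicalComplex.double (𝟙 (J.X k)) hk
    let D₂ := HomologicalComplex.double (𝟙 A) hk
    let u : D₁ ⟶ J := HomologicalComplex.mkHomFromDouble hk hne (𝟙 _) (J.d k (k + 1)) (by simp)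
      fun m _ => J.d_comp_d _ _ _
    let v : D₁ ⟶ D₂ := HomologicalComplex.mkHomFromDouble hk hne
      (ι ≫ (HomologicalComplex.doubleXIso₀ _ hk).inv) (ι ≫ (HomologicalComplex.doubleXIso₁ _ hk hne).inv)
      (by simp [D₂, HomologicalComplex.double_d _ hk hne])
      (fun m _ => by simp [D₂, HomologicalComplex.double_d_eq_zero₀ _ hk _ _ hne.symm])
    let P := pushout u v
    have hev : ∀ i, IsPushout (u.f i) (v.f i) ((pushout.inl u v).f i) ((pushout.inr u v).f i) := fun i =>
      (IsPushout.of_hasPushout u v).map (HomologicalComplex.eval X.Modules (ComplexShape.up ℤ) i)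
    have hmv : ∀ i, Mono (v.f i) := fun i => by
      by_cases h₀ : i = k
      · subst h₀
        simp only [v, HomologicalComplex.mkHomFromDouble_f₀]
        infer_instance
      by_cases h₁ : i = k + 1
      · subst h₁
        simp only [v, HomologicalComplex.mkHomFromDouble_f₁]
        infer_instance
      exact ⟨fun _ _ _ => (HomologicalComplex.isZero_double_X _ hk i h₀ h₁).eq_of_tgt _ _⟩
    haveI : Mono v := HomologicalComplex.mono_of_mono_f v hmv
    have hne' : ∀ i, i ≠ k → i ≠ k + 1 → IsIso ((pushout.inl u v).f i) := fun i h₀ h₁ => by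
      haveI : IsIso (v.f i) := ⟨0, (HomologicalComplex.isZero_double_X _ hk i h₀ h₁).eq_of_src _ _,
        (HomologicalComplex.isZero_double_X _ hk i h₀ h₁).eq_of_src _ _⟩
      exact (hev i).isIso_inl_of_isIso
    have hiso : IsIso ((pushout.inr u v).f k) := by
      haveI : IsIso (u.f k) := by
        simp only [u, HomologicalComplex.mkHomFromDouble_f₀]
        infer_instance
      exact (hev k).isIso_inr_of_isIso
    refine ⟨P, φ ≫ pushout.inl u v, ?_, fun i hi => ?_, fun i => ?_, fun i hi => ?_⟩
    · haveI : QuasiIso (pushout.inl u v) := by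
        have hac : ∀ B : X.Modules, (HomologicalComplex.double (𝟙 B) hk).Acyclic := fun B i => by
          rw [HomologicalComplex.exactAt_iff' _ (i - 1) i (i + 1) (by simp) (by simp)]
          by_cases h₀ : i = k
          · subst h₀
            haveI : Mono ((HomologicalComplex.double (𝟙 B) hk).sc' (k - 1) k (k + 1)).g := by
              show Mono ((HomologicalComplex.double (𝟙 B) hk).d k (k + 1))
              rw [HomologicalComplex.double_d _ hk hne]
              infer_instance
            exact (ShortComplex.exact_iff_mono _ ((HomologicalComplex.isZero_double_X (𝟙 B) hk (k - 1)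
              (by omega) (by omega)).eq_of_src _ _)).2 inferInstance
          by_cases h₁ : i = k + 1
          · subst h₁
            haveI : Epi ((HomologicalComplex.double (𝟙 B) hk).sc' (k + 1 - 1) (k + 1) (k + 1 + 1)).f := by
              show Epi ((HomologicalComplex.double (𝟙 B) hk).d (k + 1 - 1) (k + 1))
              rw [show k + 1 - 1 = k by omega, HomologicalComplex.double_d _ hk hne]
              infer_instance
            exact (ShortComplex.exact_iff_epi _ ((HomologicalComplex.isZero_double_X (𝟙 B) hk (k + 1 + 1)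
              (by omega) (by omega)).eq_of_tgt _ _)).2 inferInstance
          exact ShortComplex.exact_of_isZero_X₂ _ (HomologicalComplex.isZero_double_X (𝟙 B) hk i h₀ h₁)
        let T := ShortComplex.mk (pushout.inl u v) (cokernel.π (pushout.inl u v)) (cokernel.condition _)
        let e : cokernel v ⟶ cokernel (pushout.inl u v) :=
          cokernel.map v (pushout.inl u v) u (pushout.inr u v) pushout.condition.symm
        haveI : IsIso e := CategoryTheory.Limits.isIso_cokernel_map_of_isPushout (IsPushout.of_hasPushout u v).flip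
        have hT : T.ShortExact := { exact := ShortComplex.exact_cokernel _ }
        have hV : (ShortComplex.mk v (cokernel.π v) (cokernel.condition _)).ShortExact :=
          { exact := ShortComplex.exact_cokernel _ }
        refine quasiIso_of_acyclic_cokernel hT fun i => ?_
        refine (HomologicalComplex.exactAt_iff_isZero_homology _ _).2
          (IsZero.of_iso ?_ (HomologicalComplex.homologyMapIso (asIso e).symm i))
        exact (hV.homology_exact₃ i (i + 1) rfl).isZero_of_both_zeros
          (((HomologicalComplex.exactAt_iff_isZero_homology _ _).1 (hac A i)).eq_of_src _ _)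
          (((HomologicalComplex.exactAt_iff_isZero_homology _ _).1 (hac (J.X k) (i + 1))).eq_of_tgt _ _)
      infer_instance
    · haveI := hne' i (by omega) (by omega)
      exact (hJz i hi).of_iso (asIso ((pushout.inl u v).f i)).symm
    · by_cases h₀ : i = k
      · subst h₀
        exact isQCoh_of_iso' ((HomologicalComplex.doubleXIso₀ _ hk).symm ≪≫ asIso ((pushout.inr u v).f k)) hAq
      by_cases h₁ : i = k + 1
      · subst h₁
        refine isQCoh_of_iso' ((cokernelIsCokernel _).coconePointUniqueUpToIso
          (IsPushout.isColimitCokernelCofork (hev (k + 1)))) (QCohLib.isQCoh_image _ ?_ ?_).2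
        · exact isQCoh_of_iso' (HomologicalComplex.doubleXIso₁ _ hk hne).symm (hJq k)
        · exact isQCoh_biprod' (hJq _) (isQCoh_of_iso' (HomologicalComplex.doubleXIso₁ _ hk hne).symm hAq)
      haveI := hne' i h₀ h₁
      exact isQCoh_of_iso' (asIso ((pushout.inl u v).f i)) (hJq i)
    · rcases lt_or_eq_of_le (show i ≤ k by omega) with h | rfl
      · haveI := hne' i (by omega) (by omega)
        exact acy_of_retract (inv ((pushout.inl u v).f i)) ((pushout.inl u v).f i) (by simp) (hJ i h)
      · let e := (HomologicalComplex.doubleXIso₀ (𝟙 A) hk).symm ≪≫ asIso ((pushout.inr u v).f k)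
        exact acy_of_retract e.inv e.hom e.inv_hom_id hA

end Groth.Agent.ResDerLib
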