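import Groth.Agent.ProjBundleLib.FTSub
import Groth.Agent.ResPropLib.Affine
import Groth.Agent.DCohMore.FinPushRes

/-!
# Lifting along epimorphisms from finite locally free modules
-/

set_option autoImplicit false
set_option linter.style.haveILetI false
set_option backward.isDefEq.respectTransparency false

universe u

open CategoryTheory CategoryTheory.Limits AlgebraicGeometry TopologicalSpace Opposite
open Groth.Agent.PullbackMod Groth.Agent.DCohLib

noncomputable section

namespace Groth.Agent.ResDerLib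

variable {X : Scheme.{u}}

/-- An epimorphism of quasi-coherent modules onto one of finite type is dominated by a finite
locally free module. -/
theorem exists_flf_epi [CompactSpace X] [QuasiSeparatedSpace X] (hX : PerfAux.HasResolutionProperty X)
    {M N : X.Modules} (hM : Coh.IsQCoh M) (hN : Coh.IsQCoh N) (hNf : CohB1.IsFT N) (p : M ⟶ N) [Epi p] :
    ∃ (E : X.Modules) (ψ : E ⟶ M), FlatMod.IsFinLocFree E ∧ Epi (ψ ≫ p) := by
  classical
  haveI := hM
  haveI := hN
  obtain ⟨s, hsfin, hs⟩ := (isCompact_iff_finite_and_eq_biUnion_affineOpens (U := (⊤ : X.Opens))).1 isCompact_univ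
  haveI := hsfin.fintype
  haveI : ∀ W : X.affineOpens, Module.Finite Γ(X, W.1) Γ(N, W.1) := fun W =>
    QCohLib.finite_sections N hNf W.2
  choose n g hg using fun W : X.affineOpens => Module.Finite.exists_fin (R := Γ(X, W.1)) (M := Γ(N, W.1))
  choose m hm using fun (W : X.affineOpens) (k : Fin (n W)) =>
    DCohMore.surjective_app_epi hM hN p W.2 (g W k)
  obtain ⟨G, i, hGq, hGf, -, hGs⟩ := ProjBundleLib.exists_ft_through (M := M)
    (fun a : Σ W : s, Fin (n W.1) => a.1.1.1) (fun a => a.1.1.2) (fun a => m a.1.1 a.2)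
  haveI : Epi (i ≫ p) := (epi_iff_stalk _).2 fun x => by
    obtain ⟨W, hW, hxW⟩ : ∃ W ∈ s, x ∈ (W : X.Opens) := by
      have h : x ∈ (⊤ : X.Opens) := trivial
      rw [hs] at h
      simpa using h
    rw [← LinearMap.range_eq_top, eq_top_iff,
      ← ResPropLib.span_germ_eq_top N W.2 hxW (Set.range (g W)) (hg W), Submodule.span_le]
    rintro _ ⟨_, ⟨k, rfl⟩, rfl⟩
    obtain ⟨z, hz⟩ := hGs ⟨⟨W, hW⟩, k⟩
    exact ⟨G.presheaf.germ (W : X.Opens) x hxW z, by
      rw [stalkLin_germ]
      refine congrArg (N.presheaf.germ (W : X.Opens) x hxW) ?_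
      show p.app (W : X.Opens) (i.app (W : X.Opens) z) = g W k
      rw [hz, hm]⟩
  obtain ⟨E, π, hE, hπ⟩ := hX G hGq hGf
  haveI := hπ
  exact ⟨E, π ≫ i, hE, by rw [Category.assoc]; infer_instance⟩

end Groth.Agent.ResDerLib
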