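import Groth.Agent.ResDerLib.Perf

/-!
# Perfect objects as a localization of strictly perfect complexes
-/

set_option autoImplicit false
set_option linter.style.haveILetI false
set_option backward.isDefEq.respectTransparency false

universe u

open CategoryTheory CategoryTheory.Limits AlgebraicGeometry TopologicalSpace
open Groth.Agent.DCohLib Groth.Agent.DCohMore

attribute [local instance] HasDerivedCategory.standard

noncomputable section

namespace Groth.Agent.ResDerLib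

variable (X : Scheme.{u})

/-- Strictly perfect complexes. -/
abbrev SP : ObjectProperty (CochainComplex X.Modules ℤ) := fun E => DCoh.IsStrictlyPerfect E

/-- Quasi-isomorphisms of strictly perfect complexes. -/
abbrev qisSP : MorphismProperty (SP X).FullSubcategory :=
  (HomologicalComplex.quasiIso X.Modules (ComplexShape.up ℤ)).inverseImage (SP X).ι

variable {X}

theorem strictlyPerfect_biprod {E F : CochainComplex X.Modules ℤ} (hE : DCoh.IsStrictlyPerfect E)
    (hF : DCoh.IsStrictlyPerfect F) : DCoh.IsStrictlyPerfect (E ⊞ F) := by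
  obtain ⟨⟨a, b, hab⟩, hEf⟩ := hE
  obtain ⟨⟨c, d, hcd⟩, hFf⟩ := hF
  let ev := HomologicalComplex.eval X.Modules (ComplexShape.up ℤ)
  haveI : ∀ i, PreservesBinaryBiproducts (ev i) := fun i =>
    preservesBinaryBiproducts_of_preservesBiproducts (ev i)
  refine ⟨⟨min a c, max b d, fun i hi => IsZero.of_iso ((biprod_isZero_iff _ _).2 ⟨hab i ?_, hcd i ?_⟩)
    ((ev i).mapBiprod E F)⟩, fun i => isFinLocFree_iso ((ev i).mapBiprod E F).symm
      (isFinLocFree_biprod (hEf i) (hFf i))⟩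
  · omega
  · omega

/-- Homotopic maps of strictly perfect complexes agree in the localization. -/
theorem Q_map_eq {E F : (SP X).FullSubcategory} (f g : E ⟶ F)
    (h : Homotopy f.hom g.hom) : (qisSP X).Q.map f = (qisSP X).Q.map g := by
  let C : (SP X).FullSubcategory := ⟨E.obj.cylinder,
    isStrictlyPerfect_mappingCone _ E.2 (strictlyPerfect_biprod E.2 E.2)⟩
  let i₀ : E ⟶ C := ⟨HomologicalComplex.cylinder.ι₀ E.obj⟩
  let i₁ : E ⟶ C := ⟨HomologicalComplex.cylinder.ι₁ E.obj⟩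
  let π : C ⟶ E := ⟨HomologicalComplex.cylinder.π E.obj⟩
  let d : C ⟶ F := ⟨HomologicalComplex.cylinder.desc f.hom g.hom h⟩
  haveI : IsIso ((qisSP X).Q.map π) :=
    (qisSP X).Q_inverts π (homotopyEquivalences_le_quasiIso _ _ _
      ⟨HomologicalComplex.cylinder.homotopyEquiv E.obj (fun j => ⟨j - 1, by simp⟩), rfl⟩)
  have hi : (qisSP X).Q.map i₀ = (qisSP X).Q.map i₁ := by
    rw [← cancel_mono ((qisSP X).Q.map π), ← Functor.map_comp, ← Functor.map_comp]
    congr 1
    apply ObjectProperty.hom_ext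
    simp [i₀, i₁, π]
  have e₀ : i₀ ≫ d = f := ObjectProperty.hom_ext _ (by simp [i₀, d])
  have e₁ : i₁ ≫ d = g := ObjectProperty.hom_ext _ (by simp [i₁, d])
  rw [← e₀, ← e₁, Functor.map_comp, Functor.map_comp, hi]

variable [CompactSpace X] [QuasiSeparatedSpace X] (hX : PerfAux.HasResolutionProperty X)
include hX

theorem exists_roof' {E F : (SP X).FullSubcategory} (α : DCoh.toD X E.obj ⟶ DCoh.toD X F.obj) :
    ∃ (G : (SP X).FullSubcategory) (g : G ⟶ E) (h : G ⟶ F), qisSP X g ∧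
      DerivedCategory.Q.map g.hom ≫ α = DerivedCategory.Q.map h.hom := by
  obtain ⟨a, b, hab⟩ := F.2.1
  obtain ⟨G, g, h, hG, hg, hgh⟩ := exists_roof hX E.2 (a := a) (fun i hi => hab i (Or.inl hi))
    (fun i => (PullbackMod.isQCoh_and_isFP_of_isFinLocFree _ (F.2.2 i)).1) α
  exact ⟨⟨G, hG⟩, ⟨g⟩, ⟨h⟩, hg, hgh⟩

theorem exists_refine {E F : (SP X).FullSubcategory} (f g : E ⟶ F)
    (h : DerivedCategory.Q.map f.hom = DerivedCategory.Q.map g.hom) :
    (qisSP X).Q.map f = (qisSP X).Q.map g := by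
  obtain ⟨a, b, hab⟩ := F.2.1
  obtain ⟨G, γ, hG, hγ, ⟨ho⟩⟩ := exists_homotopic hX E.2 (a := a) (fun i hi => hab i (Or.inl hi))
    (fun i => (PullbackMod.isQCoh_and_isFP_of_isFinLocFree _ (F.2.2 i)).1) f.hom g.hom h
  let c : (⟨G, hG⟩ : (SP X).FullSubcategory) ⟶ E := ⟨γ⟩
  haveI : IsIso ((qisSP X).Q.map c) := (qisSP X).Q_inverts c hγ
  rw [← cancel_epi ((qisSP X).Q.map c), ← Functor.map_comp, ← Functor.map_comp]
  exact Q_map_eq _ _ ho

omit [CompactSpace X] [QuasiSeparatedSpace X] hX in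
theorem isIso_Q_map {E F : (SP X).FullSubcategory} {g : E ⟶ F} (hg : qisSP X g) :
    IsIso (DerivedCategory.Q.map g.hom) := by
  haveI : QuasiIso g.hom := hg
  infer_instance

/-- The morphisms of the localization which are roofs. -/
def roofs : MorphismProperty (qisSP X).Localization := fun X₁ X₂ φ =>
  ∀ (E F : (SP X).FullSubcategory) (h₁ : (qisSP X).Q.obj E = X₁) (h₂ : (qisSP X).Q.obj F = X₂),
    ∃ (G : (SP X).FullSubcategory) (g : G ⟶ E) (h : G ⟶ F), qisSP X g ∧
      (qisSP X).Q.map g ≫ eqToHom h₁ ≫ φ = (qisSP X).Q.map h ≫ eqToHom h₂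

theorem roofs_eq_top : (roofs (X := X)) = ⊤ := by
  haveI : (roofs (X := X)).IsStableUnderComposition := ⟨fun {X₁ X₂ X₃} φ ψ hφ hψ E F h₁ h₂ => by
    obtain ⟨M, hM⟩ : ∃ M, (qisSP X).Q.obj M = X₂ :=
      ⟨_, (Localization.Construction.objEquiv (qisSP X)).right_inv X₂⟩
    obtain ⟨G₁, g₁, k₁, hg₁, e₁⟩ := hφ E M h₁ hM
    obtain ⟨G₂, g₂, k₂, hg₂, e₂⟩ := hψ M F hM h₂
    haveI := isIso_Q_map hg₂
    obtain ⟨G, g, k, hg, e⟩ := exists_roof' hX (E := G₁) (F := G₂)
      (DerivedCategory.Q.map k₁.hom ≫ inv (DerivedCategory.Q.map g₂.hom))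
    have hc : (qisSP X).Q.map (g ≫ k₁) = (qisSP X).Q.map (k ≫ g₂) := by
      refine exists_refine hX _ _ ?_
      show DerivedCategory.Q.map (g.hom ≫ k₁.hom) = DerivedCategory.Q.map (k.hom ≫ g₂.hom)
      rw [Functor.map_comp, Functor.map_comp, ← e]
      simp
    refine ⟨G, g ≫ g₁, k ≫ k₂, ?_, ?_⟩
    · haveI : QuasiIso g.hom := hg
      haveI : QuasiIso g₁.hom := hg₁
      show QuasiIso (g.hom ≫ g₁.hom)
      infer_instance
    · rw [Functor.map_comp, Functor.map_comp] at hc ⊢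
      rw [Category.assoc, reassoc_of% e₁, reassoc_of% hc, e₂, Category.assoc]⟩
  refine Localization.Construction.morphismProperty_eq_top _ (fun A B f E F h₁ h₂ => ?_)
    (fun A B w hw E F h₁ h₂ => ?_)
  · obtain rfl := (Localization.Construction.objEquiv (qisSP X)).injective h₁
    obtain rfl := (Localization.Construction.objEquiv (qisSP X)).injective h₂
    refine ⟨E, 𝟙 E, f, ?_, by simp⟩
    show QuasiIso (𝟙 E.obj)
    infer_instance
  · obtain rfl := (Localization.Construction.objEquiv (qisSP X)).injective h₁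
    obtain rfl := (Localization.Construction.objEquiv (qisSP X)).injective h₂
    exact ⟨F, w, 𝟙 F, hw, by
      simp only [eqToHom_refl, Category.id_comp, CategoryTheory.Functor.map_id, Category.comp_id]
      exact (Localization.Construction.wIso w hw).hom_inv_id⟩

/-- Perfect objects form the localization of strictly perfect complexes at quasi-isomorphisms. -/
theorem isLocalization
    (h : ∀ E : (SP X).FullSubcategory, DCoh.IsPerfect (((SP X).ι ⋙ DerivedCategory.Q).obj E)) :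
    (ObjectProperty.lift (fun K : DCoh.D X => DCoh.IsPerfect K) ((SP X).ι ⋙ DerivedCategory.Q) h).IsLocalization
      (qisSP X) := by
  let P : ObjectProperty (DCoh.D X) := fun K => DCoh.IsPerfect K
  let L := ObjectProperty.lift P ((SP X).ι ⋙ DerivedCategory.Q) h
  have hL : (qisSP X).IsInvertedBy L := fun E F g hg => by
    haveI : IsIso (P.ι.map (L.map g)) := isIso_Q_map hg
    exact isIso_of_reflects_iso (L.map g) P.ι
  let W := qisSP X
  let G := Localization.lift L hL W.Q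
  let e : W.Q ⋙ G ≅ L := Localization.fac L hL W.Q
  haveI : G.EssSurj := ⟨fun K => by
    obtain ⟨E, hE, ⟨i⟩⟩ := exists_strictlyPerfect hX K.obj K.property
    exact ⟨W.Q.obj ⟨E, hE⟩, ⟨e.app ⟨E, hE⟩ ≪≫ P.ι.preimageIso i⟩⟩⟩
  have hsurj : ∀ Y : W.Localization, ∃ E, W.Q.obj E = Y := fun Y =>
    ⟨_, (Localization.Construction.objEquiv W).right_inv Y⟩
  have hroof : ∀ {E F : (SP X).FullSubcategory} (φ : W.Q.obj E ⟶ W.Q.obj F), ∃ (Z : (SP X).FullSubcategory)
      (g : Z ⟶ E) (k : Z ⟶ F), W g ∧ W.Q.map g ≫ φ = W.Q.map k := fun {E F} φ => by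
    obtain ⟨Z, g, k, hg, hgk⟩ := (roofs_eq_top hX).ge φ trivial E F rfl rfl
    exact ⟨Z, g, k, hg, by simpa using hgk⟩
  have hnat : ∀ {A B : (SP X).FullSubcategory} (f : A ⟶ B),
      P.ι.map (G.map (W.Q.map f)) ≫ P.ι.map (e.hom.app B) =
        P.ι.map (e.hom.app A) ≫ DerivedCategory.Q.map f.hom := fun f => by
    rw [← Functor.map_comp]
    exact (congrArg P.ι.map (e.hom.naturality f)).trans (Functor.map_comp _ _ _)
  haveI : G.Faithful := ⟨fun {Y₁ Y₂ φ ψ} hφ => by
    obtain ⟨E, rfl⟩ := hsurj Y₁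
    obtain ⟨F, rfl⟩ := hsurj Y₂
    obtain ⟨Z₁, g₁, k₁, hg₁, e₁⟩ := hroof φ
    obtain ⟨Z₂, g₂, k₂, hg₂, e₂⟩ := hroof ψ
    haveI := isIso_Q_map hg₂
    haveI : IsIso (W.Q.map g₁) := W.Q_inverts g₁ hg₁
    obtain ⟨Z, a, b, ha, hab⟩ := exists_roof' hX (E := Z₁) (F := Z₂)
      (DerivedCategory.Q.map g₁.hom ≫ inv (DerivedCategory.Q.map g₂.hom))
    haveI : IsIso (W.Q.map a) := W.Q_inverts a ha
    have hc : W.Q.map (a ≫ g₁) = W.Q.map (b ≫ g₂) := by
      refine exists_refine hX _ _ ?_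
      show DerivedCategory.Q.map (a.hom ≫ g₁.hom) = DerivedCategory.Q.map (b.hom ≫ g₂.hom)
      rw [Functor.map_comp, Functor.map_comp, ← hab]
      simp
    have hk : W.Q.map (a ≫ k₁) = W.Q.map (b ≫ k₂) := by
      refine exists_refine hX _ _ ?_
      have h1 := congrArg (fun t => P.ι.map (G.map t) ≫ P.ι.map (e.hom.app F)) (show W.Q.map (a ≫ k₁) =
        W.Q.map (a ≫ g₁) ≫ φ by rw [Functor.map_comp, Functor.map_comp, Category.assoc, e₁])
      have h2 := congrArg (fun t => P.ι.map (G.map t) ≫ P.ι.map (e.hom.app F)) (show W.Q.map (b ≫ k₂) =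
        W.Q.map (a ≫ g₁) ≫ ψ by rw [hc, Functor.map_comp, Functor.map_comp, Category.assoc, e₂])
      simp only [G.map_comp (W.Q.map (a ≫ g₁)), hφ, hnat] at h1 h2
      exact (cancel_epi (P.ι.map (e.hom.app Z))).1 (h1.trans h2.symm)
    rw [← cancel_epi (W.Q.map g₁), ← cancel_epi (W.Q.map a), e₁, ← Category.assoc, ← Functor.map_comp, ← Functor.map_comp, hc,
      hk, Functor.map_comp, Functor.map_comp, Category.assoc, e₂]⟩
  haveI : G.Full := ⟨fun {Y₁ Y₂} α => by
    obtain ⟨E, rfl⟩ := hsurj Y₁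
    obtain ⟨F, rfl⟩ := hsurj Y₂
    let β : DCoh.toD X E.obj ⟶ DCoh.toD X F.obj := P.ι.map (e.inv.app E ≫ α ≫ e.hom.app F)
    obtain ⟨Z, g, k, hg, hgk⟩ := exists_roof' hX β
    haveI : IsIso (W.Q.map g) := W.Q_inverts g hg
    refine ⟨inv (W.Q.map g) ≫ W.Q.map k, ?_⟩
    rw [Functor.map_comp, Functor.map_inv, IsIso.inv_comp_eq]
    refine P.ι.map_injective ((cancel_mono (P.ι.map (e.hom.app F))).1 ?_)
    rw [hnat, ← hgk, ← Category.assoc, ← hnat, Category.assoc]
    simp only [β, ← Functor.map_comp]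
    congr 1
    simp⟩
  haveI : G.IsEquivalence := { }
  exact Functor.IsLocalization.of_equivalence_target W.Q W L G.asEquivalence e

end Groth.Agent.ResDerLib
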