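import Groth.Agent.ResDerLib.Roof

/-!
# Perfect objects are strictly perfect under the resolution property
-/

set_option autoImplicit false
set_option linter.style.haveILetI false
set_option backward.isDefEq.respectTransparency false

universe u

open CategoryTheory CategoryTheory.Limits AlgebraicGeometry TopologicalSpace
open CategoryTheory.Pretriangulated
open scoped ZeroObject
open Groth.Agent.DCohLib Groth.Agent.DCohMore

attribute [local instance] HasDerivedCategory.standard

noncomputable section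

namespace Groth.Agent.ResDerLib

variable {X : Scheme.{u}}

local notation "S[" n "]" => DerivedCategory.singleFunctor (Scheme.Modules X) n
local notation "tX" => (DerivedCategory.TStructure.t : CategoryTheory.Triangulated.TStructure (DCoh.D X))

/-- Shifting a module placed in one degree. -/
def singleShiftIso (n a a' : ℤ) (h : n + a = a') (G : X.Modules) :
    (S[a'].obj G)⟦n⟧ ≅ S[a].obj G :=
  ((DerivedCategory.singleFunctors X.Modules).shiftIso n a a' h).app G

theorem singleShiftIso_naturality (n a a' : ℤ) (h : n + a = a') {G G' : X.Modules} (π : G ⟶ G') :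
    (S[a'].map π)⟦n⟧' ≫ (singleShiftIso n a a' h G').hom = (singleShiftIso n a a' h G).hom ≫ S[a].map π :=
  ((DerivedCategory.singleFunctors X.Modules).shiftIso n a a' h).hom.naturality π

theorem hasFlatAmplitude_single {V : X.Modules} (hV : FlatMod.IsFinLocFree V) (n : ℤ) :
    DCoh.HasFlatAmplitudeIn n n (S[n].obj V) := by
  refine ⟨(CochainComplex.singleFunctor X.Modules n).obj V,
    fun i hi => HomologicalComplex.isZero_single_obj_X _ _ _ _ (by omega), fun i => ?_,
    ⟨((DerivedCategory.singleFunctorIsoCompQ X.Modules n).app V).symm⟩⟩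
  by_cases hi : i = n
  · subst hi
    exact DCohLib.isFlat_of_flf (isFinLocFree_iso (HomologicalComplex.singleObjXSelf (ComplexShape.up ℤ) i V).symm hV)
  · exact DCohLib.isFlat_of_flf (isFinLocFree_of_isZero (HomologicalComplex.isZero_single_obj_X _ _ _ _ hi))

theorem strictlyPerfect_single {V : X.Modules} (hV : FlatMod.IsFinLocFree V) (n : ℤ) :
    DCoh.IsStrictlyPerfect ((CochainComplex.singleFunctor X.Modules n).obj V) := by
  refine ⟨⟨n, n, fun i hi => HomologicalComplex.isZero_single_obj_X _ _ _ _ (by omega)⟩, fun i => ?_⟩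
  by_cases hi : i = n
  · subst hi
    exact isFinLocFree_iso (HomologicalComplex.singleObjXSelf (ComplexShape.up ℤ) i V).symm hV
  · exact isFinLocFree_of_isZero (HomologicalComplex.isZero_single_obj_X _ _ _ _ hi)

theorem isQCohD_truncGE {L : DCoh.D X} (hL : DCoh.IsQCohD L) (a : ℤ) :
    DCoh.IsQCohD (((tX).truncGE a).obj L) := fun i => by
  rcases lt_or_ge i a with h | h
  · haveI : (((tX).truncGE a).obj L).IsGE a := inferInstanceAs ((tX).IsGE (((tX).truncGE a).obj L) a)
    exact isQCoh_of_isZero (DerivedCategory.isZero_of_isGE _ a i h)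
  · haveI := DCohLib.isIso_homology_truncGEπ L a i h
    exact isQCoh_of_iso' (asIso ((DerivedCategory.homologyFunctor X.Modules i).map (((tX).truncGEπ a).app L)))
      (hL i)

/-- An object of tor amplitude `≥ n` without cohomology above `n` is a shifted finite locally free module. -/
theorem flf_of_amp [CompactSpace X] {C : DCoh.D X} (hC : DCoh.IsPerfect C) (hCq : DCoh.IsQCohD C) {n b : ℤ}
    (hnb : n ≤ b) (hamp : DCoh.HasTorAmplitudeIn n b C) (hz : ∀ i, n < i → IsZero (DCoh.HD C i)) :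
    ∃ V : X.Modules, FlatMod.IsFinLocFree V ∧ Nonempty (C ≅ S[n].obj V) := by
  obtain ⟨L, hL, hLf, ⟨eL⟩⟩ := hasFlatAmplitudeIn_of_hasTorAmplitudeIn hnb hamp
  haveI : C.IsLE n := (DerivedCategory.isLE_iff _ _).2 hz
  haveI : C.IsGE n := (DerivedCategory.isGE_iff _ _).2 fun i hi =>
    IsZero.of_iso ((HomologicalComplex.exactAt_iff_isZero_homology _ _).1
        (ShortComplex.exact_of_isZero_X₂ _ (hL i (Or.inl hi))))
      ((DerivedCategory.homologyFunctor X.Modules i).mapIso eL.symm ≪≫
        (DerivedCategory.homologyFunctorFactors X.Modules i).app L)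
  obtain ⟨V, ⟨eV⟩⟩ := DerivedCategory.exists_iso_singleFunctor_obj_of_isGE_of_isLE C n
  refine ⟨V, ?_, ⟨eV⟩⟩
  let eK : C⟦n⟧ ≅ S[0].obj V := (shiftFunctor _ n).mapIso eV ≪≫ singleShiftIso n 0 n (add_zero n) V
  haveI : (C⟦n⟧).IsLE 0 := isLE_shift' C n n 0 (by omega)
  haveI : (C⟦n⟧).IsGE 0 := isGE_shift' C n n 0 (by omega)
  refine isFinLocFree_iso ((DerivedCategory.homologyFunctor X.Modules 0).mapIso eK ≪≫
      (DerivedCategory.singleFunctorCompHomologyFunctorIso X.Modules 0).app V)
    (DCohMore.PushFlf.isFinLocFree_of_perfect (K := C⟦n⟧) (isPerfect_shift hC n) (isQCohD_shift' hCq n) (b := b - n)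
      (hasTorAmplitudeIn_of_hasFlatAmplitudeIn ⟨L⟦n⟧, fun i hi => hL (i + n) (by omega),
        fun i => hLf (i + n), ⟨(DerivedCategory.Q.commShiftIso n).app L ≪≫ (shiftFunctor _ n).mapIso eL⟩⟩))

variable [CompactSpace X] [QuasiSeparatedSpace X] (hX : PerfAux.HasResolutionProperty X)
include hX

/-- Maps out of a bundle into a module placed further left die on a covering bundle. -/
theorem exists_kill_single {V G : X.Modules} (hV : FlatMod.IsFinLocFree V) (hG : Coh.IsQCoh G) (n j : ℤ)
    (hjn : j < n) (φ : S[n].obj V ⟶ S[j].obj G) :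
    ∃ (V' : X.Modules) (π : V' ⟶ V), FlatMod.IsFinLocFree V' ∧ Epi π ∧ S[n].map π ≫ φ = 0 := by
  obtain ⟨p, hp⟩ : ∃ p : ℕ, j + ((p + 1 : ℕ) : ℤ) = n := ⟨(n - j - 1).toNat, by omega⟩
  let k : ℤ := ((p + 1 : ℕ) : ℤ)
  let a := singleShiftIso n 0 n (add_zero n) V
  let b : (S[j].obj G)⟦n⟧ ≅ (S[0].obj G)⟦k⟧ :=
    singleShiftIso n (-k) j (by omega) G ≪≫ (singleShiftIso k (-k) 0 (by omega) G).symm
  obtain ⟨x, hx⟩ := Abelian.Ext.homEquiv.surjective (a.inv ≫ φ⟦n⟧' ≫ b.hom :
    ShiftedHom (S[0].obj V) (S[0].obj G) ((p + 1 : ℕ) : ℤ))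
  obtain ⟨V', π, hV', hπ, hk⟩ := exists_epi_kill hX p V G hV hG x
  refine ⟨V', π, hV', hπ, ?_⟩
  have h := congrArg Abelian.Ext.hom hk
  rw [Abelian.Ext.comp_hom, Abelian.Ext.mk₀_hom, ShiftedHom.mk₀_comp] at h
  have h' : S[0].map π ≫ (a.inv ≫ φ⟦n⟧' ≫ b.hom) = 0 := by
    rw [← hx]
    exact h.trans Abelian.Ext.homAddEquiv.map_zero
  apply (shiftFunctor (DCoh.D X) n).map_injective
  rw [Functor.map_comp, Functor.map_zero, ← cancel_mono b.hom, zero_comp,
    ← cancel_epi (singleShiftIso n 0 n (add_zero n) V').inv, comp_zero]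
  refine Eq.trans ?_ h'
  rw [← cancel_epi (singleShiftIso n 0 n (add_zero n) V').hom, Iso.hom_inv_id_assoc,
    ← Category.assoc (singleShiftIso n 0 n (add_zero n) V').hom, ← singleShiftIso_naturality]
  simp [a]

/-- Maps out of a bundle into bounded objects further left die on a covering bundle. -/
theorem exists_kill : ∀ (k : ℕ) {V : X.Modules}, FlatMod.IsFinLocFree V → ∀ (n : ℤ) (Z : DCoh.D X),
    DCoh.IsQCohD Z → Z.IsLE (n - 1) → Z.IsGE (n - k) → ∀ φ : S[n].obj V ⟶ Z,
      ∃ (V' : X.Modules) (π : V' ⟶ V), FlatMod.IsFinLocFree V' ∧ Epi π ∧ S[n].map π ≫ φ = 0 := by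
  intro k
  induction k with
  | zero =>
    intro V hV n Z _ hle hge φ
    refine ⟨V, 𝟙 V, hV, inferInstance, IsZero.eq_of_tgt (isZero_of_isZero_HD fun i => ?_) _ _⟩
    rcases lt_or_ge i n with h | h
    · exact DerivedCategory.isZero_of_isGE Z (n - (0 : ℕ)) i (by push_cast; omega)
    · exact DerivedCategory.isZero_of_isLE Z (n - 1) i (by omega)
  | succ k ih =>
    intro V hV n Z hZ hle hge φ
    let c : ℤ := n - ((k + 1 : ℕ) : ℤ)
    let R := ((tX).truncGE (c + 1)).obj Z
    let L := ((tX).truncLT (c + 1)).obj Z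
    haveI hR : R.IsGE (c + 1) := inferInstanceAs ((tX).IsGE (((tX).truncGE (c + 1)).obj Z) (c + 1))
    haveI : R.IsLE (n - 1) := (DerivedCategory.isLE_iff _ _).2 fun i hi => by
      haveI := DCohLib.isIso_homology_truncGEπ Z (c + 1) i (by simp only [c]; push_cast; omega)
      exact (DerivedCategory.isZero_of_isLE Z (n - 1) i hi).of_iso
        (asIso ((DerivedCategory.homologyFunctor X.Modules i).map (((tX).truncGEπ (c + 1)).app Z))).symm
    obtain ⟨V₁, π₁, hV₁, hπ₁, h₁⟩ := ih hV n R (isQCohD_truncGE hZ _) inferInstance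
      ((DerivedCategory.isGE_iff _ _).2 fun i hi =>
        DerivedCategory.isZero_of_isGE R (c + 1) i (by simp only [c]; push_cast; omega))
      (φ ≫ ((tX).truncGEπ (c + 1)).app Z)
    obtain ⟨ψ, hψ⟩ := Triangle.coyoneda_exact₂ _ ((tX).triangleLTGE_distinguished (c + 1) Z)
      (S[n].map π₁ ≫ φ) ((Category.assoc _ _ _).trans h₁)
    haveI : L.IsLE c := (tX).isLE_truncLT_obj Z (c + 1) c (by omega)
    haveI : L.IsGE c := (DerivedCategory.isGE_iff _ _).2 fun i hi => by
      haveI := DCohLib.isIso_homology_truncLTι Z (c + 1) i (by omega)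
      exact (DerivedCategory.isZero_of_isGE Z c i hi).of_iso
        (asIso ((DerivedCategory.homologyFunctor X.Modules i).map (((tX).truncLTι (c + 1)).app Z)))
    obtain ⟨G, ⟨eG⟩⟩ := DerivedCategory.exists_iso_singleFunctor_obj_of_isGE_of_isLE L c
    have hG : Coh.IsQCoh G := isQCoh_of_iso'
      ((DerivedCategory.homologyFunctor X.Modules c).mapIso eG ≪≫
        (DerivedCategory.singleFunctorCompHomologyFunctorIso X.Modules c).app G)
      (isQCohD_truncLT hZ (c + 1) c)
    obtain ⟨V₂, π₂, hV₂, hπ₂, h₂⟩ := exists_kill_single hX hV₁ hG n c (by simp only [c]; push_cast; omega)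
      (ψ ≫ eG.hom)
    refine ⟨V₂, π₂ ≫ π₁, hV₂, inferInstance, ?_⟩
    rw [← Category.assoc] at h₂
    have h₃ : S[n].map π₂ ≫ ψ = 0 := (cancel_mono eG.hom).1 (h₂.trans zero_comp.symm)
    rw [Functor.map_comp, Category.assoc, hψ, ← Category.assoc]
    erw [h₃]
    exact zero_comp

/-- A bundle onto the top cohomology, lifted into the object. -/
theorem exists_lift_top {C : DCoh.D X} (hC : DCoh.IsQCohD C) (c n : ℤ) [C.IsGE c] [C.IsLE n]
    (hft : CohB1.IsFT (DCoh.HD C n)) :
    ∃ (V : X.Modules) (e : S[n].obj V ⟶ C), FlatMod.IsFinLocFree V ∧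
      Epi ((DerivedCategory.homologyFunctor X.Modules n).map e) := by
  let R := ((tX).truncGE n).obj C
  let L := ((tX).truncLT n).obj C
  haveI : R.IsGE n := inferInstanceAs ((tX).IsGE (((tX).truncGE n).obj C) n)
  haveI : R.IsLE n := (DerivedCategory.isLE_iff _ _).2 fun i hi => by
    haveI := DCohLib.isIso_homology_truncGEπ C n i hi.le
    exact (DerivedCategory.isZero_of_isLE C n i hi).of_iso
      (asIso ((DerivedCategory.homologyFunctor X.Modules i).map (((tX).truncGEπ n).app C))).symm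
  obtain ⟨H, ⟨eH⟩⟩ := DerivedCategory.exists_iso_singleFunctor_obj_of_isGE_of_isLE R n
  haveI hπ := DCohLib.isIso_homology_truncGEπ C n n le_rfl
  let hH : DCoh.HD C n ≅ H :=
    asIso ((DerivedCategory.homologyFunctor X.Modules n).map (((tX).truncGEπ n).app C)) ≪≫
      (DerivedCategory.homologyFunctor X.Modules n).mapIso eH ≪≫
        (DerivedCategory.singleFunctorCompHomologyFunctorIso X.Modules n).app H
  obtain ⟨E, π, hE, hπE⟩ := hX (DCoh.HD C n) (hC n) hft
  haveI := hπE
  let y : S[n].obj E ⟶ R := S[n].map (π ≫ hH.hom) ≫ eH.inv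
  haveI : L.IsLE (n - 1) := (tX).isLE_truncLT_obj C n (n - 1) (by omega)
  haveI : L.IsGE (min c n) := (DerivedCategory.isGE_iff _ _).2 fun i hi => by
    haveI := DCohLib.isIso_homology_truncLTι C n i (by omega)
    exact (DerivedCategory.isZero_of_isGE C c i (by omega)).of_iso
      (asIso ((DerivedCategory.homologyFunctor X.Modules i).map (((tX).truncLTι n).app C)))
  obtain ⟨V, π', hV, hπ', hk⟩ := exists_kill hX (n - min c n + 1).toNat hE n (L⟦(1 : ℤ)⟧)
    (isQCohD_shift' (isQCohD_truncLT hC n) 1) (isLE_shift' L (n - 1) 1 (n - 1) (by omega))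
    (isGE_shift' L (min c n) 1 _ (by omega)) (y ≫ ((tX).truncGEδLT n).app C)
  have hT := (tX).triangleLTGE_distinguished n C
  obtain ⟨x, hx⟩ := Triangle.coyoneda_exact₃ _ hT (S[n].map π' ≫ y)
    ((Category.assoc _ _ _).trans hk)
  refine ⟨V, x, hV, ?_⟩
  haveI : Epi (π' ≫ π ≫ hH.hom) := inferInstance
  haveI : Epi ((DerivedCategory.homologyFunctor X.Modules n).map (S[n].map (π' ≫ π ≫ hH.hom))) := by
    let η := DerivedCategory.singleFunctorCompHomologyFunctorIso X.Modules n
    have := η.hom.naturality (π' ≫ π ≫ hH.hom)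
    rw [← cancel_mono (η.inv.app H)] at this
    simp only [Category.assoc, Iso.hom_inv_id_app, Functor.id_map, Functor.comp_map] at this
    erw [Category.comp_id] at this
    rw [this]
    exact epi_comp' inferInstance (epi_comp' (by infer_instance) inferInstance)
  haveI : Epi ((DerivedCategory.homologyFunctor X.Modules n).map x ≫
      (DerivedCategory.homologyFunctor X.Modules n).map (((tX).truncGEπ n).app C)) := by
    rw [← Functor.map_comp]
    have hx' : x ≫ ((tX).truncGEπ n).app C = S[n].map (π' ≫ π ≫ hH.hom) ≫ eH.inv :=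
      hx.symm.trans (by simp [y])
    rw [hx', Functor.map_comp]
    infer_instance
  have h : (DerivedCategory.homologyFunctor X.Modules n).map x =
      ((DerivedCategory.homologyFunctor X.Modules n).map x ≫
        (DerivedCategory.homologyFunctor X.Modules n).map (((tX).truncGEπ n).app C)) ≫
      inv ((DerivedCategory.homologyFunctor X.Modules n).map (((tX).truncGEπ n).app C)) := by simp
  rw [h]
  infer_instance

/-- Objects in a triangle starting with two strictly perfect ones are strictly perfect. -/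
theorem exists_strictlyPerfect_obj₃ (T : Triangle (DCoh.D X)) (hT : T ∈ distTriang _)
    {E₁ E₂ : CochainComplex X.Modules ℤ} (h₁ : DCoh.IsStrictlyPerfect E₁) (h₂ : DCoh.IsStrictlyPerfect E₂)
    (e₁ : T.obj₁ ≅ DCoh.toD X E₁) (e₂ : T.obj₂ ≅ DCoh.toD X E₂) :
    ∃ E : CochainComplex X.Modules ℤ, DCoh.IsStrictlyPerfect E ∧ Nonempty (DCoh.toD X E ≅ T.obj₃) := by
  obtain ⟨a, b, hab⟩ := h₂.1
  obtain ⟨G, g, h, hG, hg, hgh⟩ := exists_roof hX h₁ (a := a) (fun i hi => hab i (Or.inl hi))
    (fun i => (PullbackMod.isQCoh_and_isFP_of_isFinLocFree _ (h₂.2 i)).1) (e₁.inv ≫ T.mor₁ ≫ e₂.hom)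
  haveI := hg
  haveI : IsIso (DerivedCategory.Q.map g) := inferInstance
  refine ⟨CochainComplex.mappingCone h, isStrictlyPerfect_mappingCone h hG h₂, ⟨?_⟩⟩
  exact Triangle.π₃.mapIso (isoTriangleOfIso₁₂ _ T (DerivedCategory.mappingCone_triangle_distinguished h) hT
    (asIso (DerivedCategory.Q.map g) ≪≫ e₁.symm) e₂.symm (by
      show DerivedCategory.Q.map h ≫ e₂.inv = (DerivedCategory.Q.map g ≫ e₁.inv) ≫ T.mor₁
      rw [← hgh]
      simp))

/-- Perfect objects are strictly perfect. -/
theorem exists_strictlyPerfect (K : DCoh.D X) (hK : DCoh.IsPerfect K) :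
    ∃ E : CochainComplex X.Modules ℤ, DCoh.IsStrictlyPerfect E ∧ Nonempty (DCoh.toD X E ≅ K) := by
  obtain ⟨A, B, hAB, hamp⟩ := exists_torAmplitude_of_perfect K hK
  let hi := B
  have hKle : K.IsLE hi := (DerivedCategory.isLE_iff _ _).2 fun i hii => by
    obtain ⟨L, hL, -, ⟨eL⟩⟩ := hasFlatAmplitudeIn_of_hasTorAmplitudeIn hAB hamp
    exact IsZero.of_iso ((HomologicalComplex.exactAt_iff_isZero_homology _ _).1
        (ShortComplex.exact_of_isZero_X₂ _ (hL i (Or.inr hii))))
      ((DerivedCategory.homologyFunctor X.Modules i).mapIso eL.symm ≪≫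
        (DerivedCategory.homologyFunctorFactors X.Modules i).app L)
  have key : ∀ k : ℕ, A ≤ hi + 1 - k → ∃ (E : CochainComplex X.Modules ℤ) (T : Triangle (DCoh.D X)),
      T ∈ distTriang _ ∧ DCoh.IsStrictlyPerfect E ∧ Nonempty (T.obj₁ ≅ DCoh.toD X E) ∧ T.obj₂ = K ∧
      DCoh.HasTorAmplitudeIn (hi + 1 - k) (hi + 1) (DCoh.toD X E) ∧
      ∀ i, hi + 1 - k ≤ i → IsZero (DCoh.HD T.obj₃ i) := by
    intro k
    induction k with
    | zero =>
      intro _
      have hz : IsZero (DCoh.toD X (0 : CochainComplex X.Modules ℤ)) :=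
        DerivedCategory.Q.map_isZero (isZero_zero _)
      refine ⟨0, (contractibleTriangle K).invRotate, inv_rot_of_distTriang _ (contractible_distinguished K),
        isStrictlyPerfect_zero _ fun i => (HomologicalComplex.eval _ _ i).map_isZero (isZero_zero _),
        ⟨((shiftFunctor _ (-1 : ℤ)).map_isZero (isZero_zero _)).iso hz⟩, rfl, ?_, fun i hii => ?_⟩
      · exact hasTorAmplitudeIn_of_hasFlatAmplitudeIn ⟨0, fun i _ => (HomologicalComplex.eval _ _ i).map_isZero (isZero_zero _),
          fun i => DCohLib.isFlat_of_flf (isFinLocFree_of_isZero ((HomologicalComplex.eval _ _ i).map_isZero (isZero_zero _))), ⟨Iso.refl _⟩⟩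
      · show IsZero (DCoh.HD K i)
        exact DerivedCategory.isZero_of_isLE K hi i (by push_cast at hii; omega)
    | succ k ih =>
      intro hk
      obtain ⟨E, T, hT, hE, ⟨eE⟩, hT₂, hampE, hz⟩ := ih (by push_cast at hk; omega)
      let n := hi + 1 - ((k + 1 : ℕ) : ℤ)
      have hQE := isPerfect_iso eE.symm (isPerfect_toD_of_strictlyPerfect hE)
      have hC : DCoh.IsPerfect T.obj₃ := isPerfect_obj₃ T hT hQE (hT₂ ▸ hK)
      have hCq : DCoh.IsQCohD T.obj₃ := isQCohD_of_isPerfect hC
      haveI : T.obj₃.IsLE n := (DerivedCategory.isLE_iff _ _).2 fun i hii =>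
        hz i (by simp only [n] at hii; push_cast at hii; omega)
      obtain ⟨a₃, b₃, hab₃, hamp₃⟩ := exists_torAmplitude_of_perfect _ hC
      haveI : T.obj₃.IsGE a₃ := (DerivedCategory.isGE_iff _ _).2 fun i hii => by
        obtain ⟨L, hL, -, ⟨eL⟩⟩ := hasFlatAmplitudeIn_of_hasTorAmplitudeIn hab₃ hamp₃
        exact IsZero.of_iso ((HomologicalComplex.exactAt_iff_isZero_homology _ _).1
            (ShortComplex.exact_of_isZero_X₂ _ (hL i (Or.inl hii))))
          ((DerivedCategory.homologyFunctor X.Modules i).mapIso eL.symm ≪≫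
            (DerivedCategory.homologyFunctorFactors X.Modules i).app L)
      have hft : CohB1.IsFT (DCoh.HD T.obj₃ n) := by
        have h := isFP_top (isPseudoCoherentD_of_isPerfect' hC (n - 1)) fun i hii =>
          DerivedCategory.isZero_of_isLE T.obj₃ n i (by omega)
        rw [show n - 1 + 1 = n by omega] at h
        exact ExactConstrLib.isFT_of_isFP h
      obtain ⟨V, e, hV, he⟩ := exists_lift_top hX hCq a₃ n hft
      obtain ⟨C', q, r, hq⟩ := distinguished_cocone_triangle e
      obtain ⟨Z, v, w, h13⟩ := distinguished_cocone_triangle (T.mor₂ ≫ q)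
      let o := Triangulated.someOctahedron rfl (rot_of_distTriang _ hT) (rot_of_distTriang _ hq) h13
      let T₄ := (Triangle.shiftFunctor (DCoh.D X) (-1)).obj o.triangle
      have hT₄ : T₄ ∈ distTriang _ := Triangle.shift_distinguished _ o.mem (-1)
      let u₁ : T₄.invRotate.obj₁ ≅ DCoh.toD X ((CochainComplex.singleFunctor X.Modules (n + 1)).obj V) :=
        (shiftFunctor _ (-1 : ℤ)).mapIso
            ((shiftFunctorCompIsoId (DCoh.D X) (1 : ℤ) (-1) (by omega)).app (S[n].obj V)) ≪≫
          singleShiftIso (-1) (n + 1) n (by omega) V ≪≫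
          (DerivedCategory.singleFunctorIsoCompQ X.Modules (n + 1)).app V
      let u₂ : T₄.invRotate.obj₂ ≅ DCoh.toD X E :=
        (shiftFunctorCompIsoId (DCoh.D X) (1 : ℤ) (-1) (by omega)).app T.obj₁ ≪≫ eE
      obtain ⟨E', hE', ⟨eE'⟩⟩ := exists_strictlyPerfect_obj₃ hX _ (inv_rot_of_distTriang _ hT₄)
        (strictlyPerfect_single hV (n + 1)) hE u₁ u₂
      refine ⟨E', (Triangle.mk (T.mor₂ ≫ q) v w).invRotate, inv_rot_of_distTriang _ h13, hE', ⟨eE'.symm⟩,
        hT₂, ?_, fun i hii => ?_⟩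
      · refine hasTorAmplitudeIn_congr eE'.symm (torAmplitude₂ hT₄ ?_ ?_)
        · refine hasTorAmplitudeIn_congr u₂.symm fun F _ i hii => hampE F i ?_
          omega
        · refine hasTorAmplitudeIn_congr
            ((shiftFunctorCompIsoId (DCoh.D X) (1 : ℤ) (-1) (by omega)).app (S[n].obj V)).symm fun F _ i hii =>
              hasTorAmplitudeIn_of_hasFlatAmplitudeIn (hasFlatAmplitude_single hV n) F i ?_
          simp only [n]
          omega
      · show IsZero (DCoh.HD C' i)
        have hexact := DerivedCategory.HomologySequence.exact₃ _ hq i (i + 1) rfl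
        have hqz : (DerivedCategory.homologyFunctor X.Modules i).map q = 0 := by
          rcases lt_or_eq_of_le (show n ≤ i from hii) with h | rfl
          · exact (DerivedCategory.isZero_of_isLE T.obj₃ n i h).eq_of_src _ _
          · haveI := he
            rw [← cancel_epi ((DerivedCategory.homologyFunctor X.Modules n).map e), comp_zero, ← Functor.map_comp]
            exact (congrArg _ (comp_distTriang_mor_zero₁₂ _ hq)).trans (Functor.map_zero _ _ _)
        refine hexact.isZero_of_both_zeros hqz (IsZero.eq_of_tgt ?_ _ _)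
        exact DerivedCategory.isZero_of_isLE (S[n].obj V) n (i + 1)
          (by simp only [n] at hii ⊢; push_cast at hii ⊢; omega)
  obtain ⟨k, hk⟩ : ∃ k : ℕ, hi + 1 - k = A := ⟨(hi + 1 - A).toNat, by omega⟩
  obtain ⟨E, T, hT, hE, ⟨eE⟩, hT₂, hampE, hz⟩ := key k hk.ge
  rw [hk] at hampE hz
  have hC : DCoh.IsPerfect T.obj₃ := isPerfect_obj₃ T hT
    (isPerfect_iso eE.symm (isPerfect_toD_of_strictlyPerfect hE)) (hT₂ ▸ hK)
  have hampC : DCoh.HasTorAmplitudeIn (A - 1) hi T.obj₃ := by
    refine torAmplitude₃ hT (hasTorAmplitudeIn_congr eE.symm ?_) (hT₂ ▸ fun F _ i hii => hamp F i (by omega))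
    exact fun F _ i hii => hampE F i (by omega)
  obtain ⟨V, hV, ⟨eV⟩⟩ := flf_of_amp hC (isQCohD_of_isPerfect hC) (by omega) hampC fun i hii => hz i (by omega)
  obtain ⟨E', hE', ⟨e'⟩⟩ := exists_strictlyPerfect_obj₃ hX _ (inv_rot_of_distTriang _ hT)
    (strictlyPerfect_single hV (A - 1 + 1)) hE
    ((shiftFunctor _ (-1 : ℤ)).mapIso eV ≪≫ singleShiftIso (-1) (A - 1 + 1) (A - 1) (by omega) V ≪≫
      (DerivedCategory.singleFunctorIsoCompQ X.Modules (A - 1 + 1)).app V) eE
  exact ⟨E', hE', ⟨e' ≪≫ eqToIso hT₂⟩⟩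

end Groth.Agent.ResDerLib
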