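import Groth.Agent.ResDerLib.Lift
import Groth.Agent.ResDerLib.Cone
import Groth.Agent.DCohLib.FlatAmp
import Groth.Agent.DCohLib.TriRes
import Groth.Agent.DCohLib.PullPerf
import Groth.Agent.DCohLib.TensorMod
import Groth.Agent.DCohLib.PCTop
import Groth.Agent.DCohLib.TwoThree
import Groth.Agent.DCohLib.QCohAbelian
import Groth.Agent.DCohMore.PushFlf
import Groth.Agent.DCohMore.PerfVanish
import Groth.Agent.DCohMore.TensorCoh
import Groth.Agent.ExactConstrLib.LocFree

/-!
# Strictly perfect resolutions of complexes of quasi-coherent modules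
-/

set_option autoImplicit false
set_option linter.style.haveILetI false
set_option backward.isDefEq.respectTransparency false

universe u

open CategoryTheory CategoryTheory.Limits AlgebraicGeometry TopologicalSpace
open CategoryTheory.Pretriangulated
open scoped ZeroObject
open Groth.Agent.DCohLib Groth.Agent.DCohMore

attribute [local instance] HasDerivedCategory.standard

noncomputable section

namespace Groth.Agent.ResDerLib

variable {X : Scheme.{u}}

theorem isQCoh_cone_X {E F : CochainComplex X.Modules ℤ} (φ : E ⟶ F) (hE : ∀ i, Coh.IsQCoh (E.X i))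
    (hF : ∀ i, Coh.IsQCoh (F.X i)) (i : ℤ) : Coh.IsQCoh ((CochainComplex.mappingCone φ).X i) :=
  isQCoh_of_iso' (HomologicalComplex.homotopyCofiber.XIsoBiprod φ i (i + 1) rfl).symm
    (isQCoh_biprod' (hE (i + 1)) (hF i))

theorem isPerfect_toD_of_strictlyPerfect {E : CochainComplex X.Modules ℤ} (hE : DCoh.IsStrictlyPerfect E) :
    DCoh.IsPerfect (DCoh.toD X E) :=
  isPerfect_of_perfOn ⟨E, hE, ⟨Iso.refl _⟩⟩

theorem isPerfect_cone {E F : CochainComplex X.Modules ℤ} (φ : E ⟶ F) (hE : DCoh.IsPerfect (DCoh.toD X E))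
    (hF : DCoh.IsPerfect (DCoh.toD X F)) : DCoh.IsPerfect (DCoh.toD X (CochainComplex.mappingCone φ)) :=
  isPerfect_obj₃ _ (DerivedCategory.mappingCone_triangle_distinguished φ) hE hF

/-- Attach one cell. -/
theorem exists_cell (F : CochainComplex X.Modules ℤ) (hFq : ∀ i, Coh.IsQCoh (F.X i))
    {E : CochainComplex X.Modules ℤ} (φ : E ⟶ F) {hi m n : ℤ} (hn : m + (-1) = n) (hm : m ≤ hi + 1)
    (hE : DCoh.VanishesOutside E m hi) (hEf : ∀ i, FlatMod.IsFinLocFree (E.X i))
    (hex : ∀ i, m ≤ i → (CochainComplex.mappingCone φ).ExactAt i)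
    (V : X.Modules) (hV : FlatMod.IsFinLocFree V) (z : V ⟶ (CochainComplex.mappingCone φ).cycles n)
    [Epi (z ≫ (CochainComplex.mappingCone φ).homologyπ n)] :
    ∃ (E' : CochainComplex X.Modules ℤ) (φ' : E' ⟶ F), DCoh.VanishesOutside E' n hi ∧
      (∀ i, FlatMod.IsFinLocFree (E'.X i)) ∧ (∀ i, n ≤ i → (CochainComplex.mappingCone φ').ExactAt i) ∧
      ((∀ i, i < m → IsZero (F.X i)) → Mono z → ∀ i, (CochainComplex.mappingCone φ').ExactAt i) := by
  let C := CochainComplex.mappingCone φ
  let ψ : V ⟶ C.X n := z ≫ C.iCycles n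
  let vE : V ⟶ E.X m := ψ ≫ (CochainComplex.mappingCone.fst φ).1.v n m (by omega)
  let vF : V ⟶ F.X n := ψ ≫ (CochainComplex.mappingCone.snd φ).v n n (add_zero n)
  have hψ : ψ = cellClass φ V vE hn vF := by
    simp only [cellClass, vE, vF, Category.assoc, ← Preadditive.comp_add]
    rw [CochainComplex.mappingCone.id_X φ n m (by omega), Category.comp_id]
  have hψd : ψ ≫ C.d n m = 0 := by simp [ψ]
  have h₁ : vE ≫ E.d m (m + 1) = 0 := by
    have h := congrArg (· ≫ (CochainComplex.mappingCone.fst φ).1.v m (m + 1) rfl) hψd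
    rw [hψ] at h
    simp [cellClass, C, CochainComplex.mappingCone.inl_v_d_assoc φ m n (m + 1) hn (by omega)] at h
    simpa using h
  have h₂ : vF ≫ F.d n m + vE ≫ φ.f m = 0 := by
    have h := congrArg (· ≫ (CochainComplex.mappingCone.snd φ).v m m (add_zero m)) hψd
    rw [hψ] at h
    simp [cellClass, C, CochainComplex.mappingCone.inl_v_d_assoc φ m n (m + 1) hn (by omega)] at h
    rw [add_comm]
    exact h
  let γ := cellMap V vE h₁
  let φ' := cellExt φ V vE h₁ hn vF h₂
  let f := coneMap φ V vE h₁ hn vF h₂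
  let C' := CochainComplex.mappingCone φ'
  have hz : ∀ i, i ≠ m → IsZero (((HomologicalComplex.single X.Modules (ComplexShape.up ℤ) m).obj V).X i) :=
    fun i h => HomologicalComplex.isZero_single_obj_X _ _ _ _ h
  have hE' : DCoh.VanishesOutside (cellSrc V vE h₁) n hi := fun i hii =>
    IsZero.of_iso ((biprod_isZero_iff _ _).2 ⟨hz (i + 1) (by omega), hE i (by omega)⟩)
      (HomologicalComplex.homotopyCofiber.XIsoBiprod γ i (i + 1) rfl)
  have hex' : ∀ i, n ≤ i → C'.ExactAt i := fun i hii => by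
    haveI := isIso_coneMap_f φ V vE h₁ hn vF h₂ i (by omega)
    haveI := isIso_coneMap_f φ V vE h₁ hn vF h₂ (i + 1) (by omega)
    haveI := epi_homologyMap_of_isIso f i
    rw [HomologicalComplex.exactAt_iff_isZero_homology]
    rcases lt_or_eq_of_le hii with h | rfl
    · exact IsZero.of_epi (HomologicalComplex.homologyMap f i)
        ((HomologicalComplex.exactAt_iff_isZero_homology _ _).1 (hex i (by omega)))
    · refine IsZero.of_epi_eq_zero (HomologicalComplex.homologyMap f n) ?_
      rw [← cancel_epi (z ≫ C.homologyπ n), comp_zero, Category.assoc, HomologicalComplex.homologyπ_naturality,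
        ← Category.assoc]
      have hk : z ≫ HomologicalComplex.cyclesMap f n =
          cellTop φ V vE h₁ hn vF h₂ (rfl : n + (-1) = n + (-1)) ≫ C'.toCycles (n + (-1)) n := by
        rw [← cancel_mono (C'.iCycles n), Category.assoc, Category.assoc, HomologicalComplex.toCycles_i,
          cellTop_d, HomologicalComplex.cyclesMap_i, ← hψ]
        simp [ψ, C, f]
      rw [hk, Category.assoc, HomologicalComplex.toCycles_comp_homologyπ, comp_zero]
  refine ⟨cellSrc V vE h₁, φ', hE', fun i => isFinLocFree_iso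
      (HomologicalComplex.homotopyCofiber.XIsoBiprod γ i (i + 1) rfl).symm
      (isFinLocFree_biprod ?_ (hEf i)), hex', fun hF hzm i => ?_⟩
  · by_cases h : i + 1 = m
    · exact isFinLocFree_iso (eqToIso (by rw [h]) ≪≫
        HomologicalComplex.singleObjXSelf (ComplexShape.up ℤ) m V).symm hV
    · exact isFinLocFree_of_isZero (hz (i + 1) h)
  rcases le_or_gt n i with hii | hii
  · exact hex' i hii
  have hC'z : ∀ i, i < n + (-1) → IsZero (C'.X i) := fun i hii =>
    IsZero.of_iso ((biprod_isZero_iff _ _).2 ⟨hE' (i + 1) (by omega), hF i (by omega)⟩)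
      (HomologicalComplex.homotopyCofiber.XIsoBiprod φ' i (i + 1) rfl)
  rcases lt_or_eq_of_le (show i ≤ n + (-1) by omega) with h | rfl
  · exact ShortComplex.exact_of_isZero_X₂ _ (hC'z i h)
  rw [HomologicalComplex.exactAt_iff' _ (n + (-1) - 1) (n + (-1)) n (by simp) (by simp)]
  refine (ShortComplex.exact_iff_mono _ ((hC'z (n + (-1) - 1) (by omega)).eq_of_src _ _)).2 ?_
  show Mono (C'.d (n + (-1)) n)
  haveI := isIso_inl_v γ m n hn (hE n (by omega))
  haveI := isIso_inl_v φ' n (n + (-1)) rfl (hF _ (by omega))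
  haveI : IsIso (cellTop φ V vE h₁ hn vF h₂ (rfl : n + (-1) = n + (-1))) := by
    unfold cellTop
    infer_instance
  haveI := isIso_coneMap_f φ V vE h₁ hn vF h₂ n (by omega)
  haveI : Mono (cellTop φ V vE h₁ hn vF h₂ (rfl : n + (-1) = n + (-1)) ≫ C'.d (n + (-1)) n) := by
    rw [cellTop_d, ← hψ]
    haveI := hzm
    infer_instance
  have h' : C'.d (n + (-1)) n = inv (cellTop φ V vE h₁ hn vF h₂ (rfl : n + (-1) = n + (-1))) ≫
      (cellTop φ V vE h₁ hn vF h₂ (rfl : n + (-1) = n + (-1)) ≫ C'.d (n + (-1)) n) := by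
    rw [IsIso.inv_hom_id_assoc]
  rw [h']
  infer_instance

theorem exists_qis_strictlyPerfect [CompactSpace X] [QuasiSeparatedSpace X]
    (hX : PerfAux.HasResolutionProperty X) (F : CochainComplex X.Modules ℤ) (a : ℤ)
    (hFa : ∀ i, i < a → IsZero (F.X i)) (hFq : ∀ i, Coh.IsQCoh (F.X i))
    (hF : DCoh.IsPerfect (DCoh.toD X F)) :
    ∃ (E : CochainComplex X.Modules ℤ) (φ : E ⟶ F), DCoh.IsStrictlyPerfect E ∧ QuasiIso φ := by
  obtain ⟨A, B, hAB, hamp⟩ := exists_torAmplitude_of_perfect _ hF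
  obtain ⟨B', hB'⟩ := exists_isLE_of_isPerfect hF
  let hi := B'
  let m₀ := min (min a A) (hi + 1)
  have hperf : ∀ {E : CochainComplex X.Modules ℤ} (φ : E ⟶ F) {m : ℤ}, DCoh.VanishesOutside E m hi →
      (∀ i, FlatMod.IsFinLocFree (E.X i)) → DCoh.IsPerfect (DCoh.toD X (CochainComplex.mappingCone φ)) :=
    fun φ _ hE hEf => isPerfect_cone φ (isPerfect_toD_of_strictlyPerfect ⟨⟨_, _, hE⟩, hEf⟩) hF
  have key : ∀ k : ℕ, m₀ ≤ hi + 1 - k → ∃ (E : CochainComplex X.Modules ℤ) (φ : E ⟶ F),
      DCoh.VanishesOutside E (hi + 1 - k) hi ∧ (∀ i, FlatMod.IsFinLocFree (E.X i)) ∧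
      ∀ i, hi + 1 - k ≤ i → (CochainComplex.mappingCone φ).ExactAt i := by
    intro k
    induction k with
    | zero =>
      refine fun _ => ⟨0, 0, fun i _ => (HomologicalComplex.eval _ _ i).map_isZero (isZero_zero _),
        fun i => isFinLocFree_of_isZero ((HomologicalComplex.eval _ _ i).map_isZero (isZero_zero _)), fun i hii => ?_⟩
      rw [HomologicalComplex.exactAt_iff_isZero_homology]
      let ι := CochainComplex.mappingCone.inr (0 : (0 : CochainComplex X.Modules ℤ) ⟶ F)
      haveI := isIso_inr_f (0 : (0 : CochainComplex X.Modules ℤ) ⟶ F) i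
        ((HomologicalComplex.eval _ _ (i + 1)).map_isZero (isZero_zero _))
      haveI := isIso_inr_f (0 : (0 : CochainComplex X.Modules ℤ) ⟶ F) (i + 1)
        ((HomologicalComplex.eval _ _ (i + 1 + 1)).map_isZero (isZero_zero _))
      haveI := epi_homologyMap_of_isIso ι i
      exact IsZero.of_epi (HomologicalComplex.homologyMap ι i)
        ((DerivedCategory.isZero_of_isLE (DCoh.toD X F) B' i (by push_cast at hii; omega)).of_iso
          ((DerivedCategory.homologyFunctorFactors X.Modules i).app F).symm)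
    | succ k ih =>
      intro hk
      obtain ⟨E, φ, hE, hEf, hex⟩ := ih (by push_cast at hk; omega)
      let C := CochainComplex.mappingCone φ
      let n := hi + 1 - ((k + 1 : ℕ) : ℤ)
      have hCq := isQCoh_cone_X φ (fun i => (PullbackMod.isQCoh_and_isFP_of_isFinLocFree _ (hEf i)).1) hFq
      have hpc := isPseudoCoherentD_of_isPerfect' (hperf φ hE hEf) (n - 1)
      have hN : CohB1.IsFT (C.homology n) := by
        have h := isFP_top hpc fun i hii => ((HomologicalComplex.exactAt_iff_isZero_homology _ _).1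
          (hex i (by simp only [n] at hii; push_cast at hii; omega))).of_iso
            ((DerivedCategory.homologyFunctorFactors X.Modules i).app C)
        rw [show n - 1 + 1 = n by omega] at h
        exact ExactConstrLib.isFT_of_isFP (isFP_iso ((DerivedCategory.homologyFunctorFactors X.Modules n).app C) h)
      obtain ⟨V, z, hV, hz⟩ := exists_flf_epi hX
        (isQCoh_of_iso' ((kernelIsKernel _).conePointUniqueUpToIso (C.cyclesIsKernel n (n + 1) (by simp)))
          (QCohLib.isQCoh_image (C.d n (n + 1)) (hCq n) (hCq (n + 1))).1)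
        (isQCoh_homology_of_terms hCq n) hN (C.homologyπ n)
      haveI := hz
      obtain ⟨E', φ', h1, h2, h3, -⟩ := exists_cell F hFq φ (m := hi + 1 - k) (n := n)
        (by simp only [n]; push_cast; omega) (by omega) hE hEf hex V hV z
      exact ⟨E', φ', h1, h2, h3⟩
  obtain ⟨k, hk⟩ : ∃ k : ℕ, hi + 1 - k = m₀ := ⟨(hi + 1 - m₀).toNat, by omega⟩
  obtain ⟨E, φ, hE, hEf, hex⟩ := key k hk.ge
  rw [hk] at hE hex
  let C := CochainComplex.mappingCone φ
  let n := m₀ + (-1)
  have hm₀ : m₀ ≤ a ∧ m₀ ≤ A ∧ m₀ ≤ hi + 1 := ⟨by omega, by omega, by omega⟩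
  have hCq := isQCoh_cone_X φ (fun i => (PullbackMod.isQCoh_and_isFP_of_isFinLocFree _ (hEf i)).1) hFq
  have hCz : ∀ i, i < n → IsZero (C.X i) := fun i hii =>
    IsZero.of_iso ((biprod_isZero_iff _ _).2 ⟨hE (i + 1) (by omega), hFa i (by omega)⟩)
      (HomologicalComplex.homotopyCofiber.XIsoBiprod φ i (i + 1) rfl)
  have hampC : DCoh.HasTorAmplitudeIn n (max hi B) (DCoh.toD X C) := by
    refine torAmplitude₃ (DerivedCategory.mappingCone_triangle_distinguished φ) ?_ ?_
    · refine hasTorAmplitudeIn_of_hasFlatAmplitudeIn ⟨E, fun i hii => hE i ?_,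
        fun i => DCohLib.isFlat_of_flf (hEf i), ⟨Iso.refl _⟩⟩
      omega
    · exact fun G _ i hii => hamp G i (by omega)
  obtain ⟨L, hL, hLf, ⟨eL⟩⟩ := hasFlatAmplitudeIn_of_hasTorAmplitudeIn
    (by omega : n ≤ max hi B) hampC
  let K : DCoh.D X := (DCoh.toD X C)⟦n⟧
  have hC : ∀ i, i ≠ n → IsZero (DCoh.HD (DCoh.toD X C) i) := fun i hii => by
    refine IsZero.of_iso ?_ ((DerivedCategory.homologyFunctorFactors X.Modules i).app C)
    show IsZero (C.homology i)
    rw [← HomologicalComplex.exactAt_iff_isZero_homology]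
    rcases lt_or_gt_of_ne hii with h | h
    · exact ShortComplex.exact_of_isZero_X₂ _ (hCz i h)
    · exact hex i (by omega)
  let sh : ∀ i, DCoh.HD K i ≅ DCoh.HD (DCoh.toD X C) (n + i) := fun i =>
    ((DerivedCategory.homologyFunctor X.Modules 0).shiftIso n i (n + i) rfl).app (DCoh.toD X C)
  haveI : K.IsLE 0 := (DerivedCategory.isLE_iff _ _).2 fun i hii => (hC (n + i) (by omega)).of_iso (sh i)
  haveI : K.IsGE 0 := (DerivedCategory.isGE_iff _ _).2 fun i hii => (hC (n + i) (by omega)).of_iso (sh i)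
  have hqC : DCoh.IsQCohD (DCoh.toD X C) := fun i =>
    isQCoh_of_iso' ((DerivedCategory.homologyFunctorFactors X.Modules i).app C).symm
      (isQCoh_homology_of_terms hCq i)
  have hflf := DCohMore.PushFlf.isFinLocFree_of_perfect (K := K) (isPerfect_shift (hperf φ hE hEf) n) (isQCohD_shift' hqC n)
    (b := max hi B - n) (hasTorAmplitudeIn_of_hasFlatAmplitudeIn ⟨L⟦n⟧, fun i hii => hL (i + n) (by omega),
      fun i => hLf (i + n), ⟨(DerivedCategory.Q.commShiftIso n).app L ≪≫ (shiftFunctor _ n).mapIso eL⟩⟩)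
  have hflfH : FlatMod.IsFinLocFree (C.homology n) := by
    refine isFinLocFree_iso ?_ hflf
    exact sh 0 ≪≫ eqToIso (congrArg (DCoh.HD (DCoh.toD X C)) (add_zero n)) ≪≫
      (DerivedCategory.homologyFunctorFactors X.Modules n).app C
  haveI := C.isIso_homologyπ (n - 1) n (by simp) ((hCz (n - 1) (by omega)).eq_of_src _ _)
  haveI : Epi (inv (C.homologyπ n) ≫ C.homologyπ n) := by rw [IsIso.inv_hom_id]; infer_instance
  obtain ⟨E', φ', h1, h2, -, h4⟩ := exists_cell F hFq φ (m := m₀) (n := n) rfl hm₀.2.2 hE hEf hex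
    _ hflfH (inv (C.homologyπ n))
  refine ⟨E', φ', ⟨⟨_, _, h1⟩, h2⟩, ?_⟩
  have hall := h4 (fun i hii => hFa i (by omega)) inferInstance
  haveI : IsIso (DerivedCategory.Q.map φ') := by
    refine (Triangle.isZero₃_iff_isIso₁ _ (DerivedCategory.mappingCone_triangle_distinguished φ')).1 ?_
    exact isZero_of_isZero_HD fun i => ((HomologicalComplex.exactAt_iff_isZero_homology _ _).1 (hall i)).of_iso
      ((DerivedCategory.homologyFunctorFactors X.Modules i).app _)
  exact (DerivedCategory.isIso_Q_map_iff_quasiIso (C := X.Modules) φ').1 inferInstance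

end Groth.Agent.ResDerLib
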