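import Groth.Agent.ResDerLib.HomK
import Groth.Agent.ResDerLib.Resolve
import Mathlib.Algebra.Homology.HomotopyCategory.MappingCocone

/-!
# Roofs of strictly perfect complexes
-/

set_option autoImplicit false
set_option linter.style.haveILetI false
set_option backward.isDefEq.respectTransparency false

universe u

open CategoryTheory CategoryTheory.Limits AlgebraicGeometry TopologicalSpace
open CategoryTheory.Pretriangulated CochainComplex CochainComplex.HomComplex
open Groth.Agent.DCohLib Groth.Agent.DCohMore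

attribute [local instance] HasDerivedCategory.standard

noncomputable section

namespace Groth.Agent.ResDerLib

section Cocone

variable {A : Type*} [Category A] [Abelian A] {E C : CochainComplex A ℤ} (w : E ⟶ C)

/-- The projection of a cocone followed by the map is null-homotopic. -/
def fstCompHomotopy : Homotopy (mappingCocone.fst w ≫ w) 0 :=
  (Cochain.equivHomotopy _ _).symm ⟨-mappingCocone.descCochain w (0 : Cochain E C (-1))
      (Cochain.ofHom (𝟙 C)) (neg_add_cancel 1), by
    rw [δ_neg, mappingCocone.δ_descCochain _ _ _ _ 1 (by omega)]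
    simp⟩

theorem homotopy_comp_of_cocone {P : CochainComplex A ℤ} (g : P ⟶ mappingCocone w) :
    Nonempty (Homotopy ((g ≫ mappingCocone.fst w) ≫ w) 0) :=
  ⟨(Homotopy.ofEq (Category.assoc _ _ _)).trans (((fstCompHomotopy w).compLeft g).trans
    (Homotopy.ofEq comp_zero))⟩

end Cocone

variable {X : Scheme.{u}}

theorem quasiIso_fst {E C : CochainComplex X.Modules ℤ} (w : E ⟶ C) (hC : ∀ i, C.ExactAt i) :
    QuasiIso (mappingCocone.fst w) := by
  haveI : IsIso (DerivedCategory.Q.map (mappingCocone.fst w)) :=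
    (Triangle.isZero₃_iff_isIso₁ _ (DerivedCategory.mappingCocone_triangle_distinguished w)).1
      (isZero_of_isZero_HD fun i => ((HomologicalComplex.exactAt_iff_isZero_homology _ _).1 (hC i)).of_iso
        ((DerivedCategory.homologyFunctorFactors X.Modules i).app C))
  exact (DerivedCategory.isIso_Q_map_iff_quasiIso (C := X.Modules) _).1 inferInstance

theorem isQCoh_cocone_X {E C : CochainComplex X.Modules ℤ} (w : E ⟶ C) (hE : ∀ i, Coh.IsQCoh (E.X i))
    (hC : ∀ i, Coh.IsQCoh (C.X i)) (i : ℤ) : Coh.IsQCoh ((mappingCocone w).X i) :=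
  isQCoh_cone_X w hE hC (i + (-1))

theorem isZero_cone_X {E F : CochainComplex X.Modules ℤ} (φ : E ⟶ F) {a : ℤ} (hE : ∀ i, i < a → IsZero (E.X i))
    (hF : ∀ i, i < a - 1 → IsZero (F.X i)) (i : ℤ) (hi : i < a - 1) : IsZero ((mappingCone φ).X i) :=
  IsZero.of_iso ((biprod_isZero_iff _ _).2 ⟨hE (i + 1) (by omega), hF i hi⟩)
    (HomologicalComplex.homotopyCofiber.XIsoBiprod φ i (i + 1) rfl)

variable [CompactSpace X] [QuasiSeparatedSpace X] (hX : PerfAux.HasResolutionProperty X)
include hX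

/-- A complex of quasi-coherent modules mapping quasi-isomorphically onto a strictly perfect one is dominated. -/
theorem exists_dominate {E P : CochainComplex X.Modules ℤ} (hE : DCoh.IsStrictlyPerfect E) (g : P ⟶ E)
    (hg : QuasiIso g) {a : ℤ} (hPa : ∀ i, i < a → IsZero (P.X i)) (hPq : ∀ i, Coh.IsQCoh (P.X i)) :
    ∃ (G : CochainComplex X.Modules ℤ) (γ : G ⟶ P), DCoh.IsStrictlyPerfect G ∧ QuasiIso γ ∧ QuasiIso (γ ≫ g) := by
  haveI := hg
  haveI : IsIso (DerivedCategory.Q.map g) := inferInstance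
  obtain ⟨G, γ, hG, hγ⟩ := exists_qis_strictlyPerfect hX P a hPa hPq
    (isPerfect_iso (asIso (DerivedCategory.Q.map g)).symm (isPerfect_toD_of_strictlyPerfect hE))
  haveI := hγ
  exact ⟨G, γ, hG, hγ, inferInstance⟩

/-- Morphisms from strictly perfect complexes to complexes of quasi-coherent modules are roofs. -/
theorem exists_roof {E F : CochainComplex X.Modules ℤ} (hE : DCoh.IsStrictlyPerfect E) {a : ℤ}
    (hFa : ∀ i, i < a → IsZero (F.X i)) (hFq : ∀ i, Coh.IsQCoh (F.X i))
    (α : DCoh.toD X E ⟶ DCoh.toD X F) :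
    ∃ (G : CochainComplex X.Modules ℤ) (g : G ⟶ E) (h : G ⟶ F), DCoh.IsStrictlyPerfect G ∧ QuasiIso g ∧
      DerivedCategory.Q.map g ≫ α = DerivedCategory.Q.map h := by
  obtain ⟨c, d, hcd⟩ := hE.1
  obtain ⟨J, ψ, hψ, hJz, hJq, hJA⟩ := exists_acy_complex hX F a hFa hFq (d + 2 - a).toNat
  haveI := hψ
  let q := DerivedCategory.quotientCompQhIso X.Modules
  obtain ⟨b, hb⟩ := (bijective_Qh_map c d a hcd hE.2 hJz (fun i hi => hJA i (by omega))).2
    (q.hom.app E ≫ (α ≫ DerivedCategory.Q.map ψ) ≫ q.inv.app J)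
  obtain ⟨b, rfl⟩ := (HomotopyCategory.quotient X.Modules (ComplexShape.up ℤ)).map_surjective b
  have hbQ : DerivedCategory.Q.map b = α ≫ DerivedCategory.Q.map ψ := by
    rw [← cancel_epi (q.hom.app E)]
    refine (q.hom.naturality b).symm.trans ?_
    refine (congrArg (· ≫ q.hom.app J) hb).trans ?_
    simp
    exact congrArg (α ≫ ·) (NatIso.naturality_1 q ψ)
  let w := b ≫ mappingCone.inr ψ
  let g := mappingCocone.fst w
  let h : mappingCocone w ⟶ F := mappingCocone.desc w 0 (-mappingCone.fst ψ) (by simp [w])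
  have hac : ∀ i, (mappingCone ψ).ExactAt i := fun i => FilDLib.exactAt_mappingCone_of_quasiIso ψ i
  have hH : Homotopy (h ≫ ψ) (g ≫ b) := (Cochain.equivHomotopy _ _).symm
    ⟨mappingCocone.descCochain w (0 : Cochain E J (-1)) (mappingCone.snd ψ) (neg_add_cancel 1), by
      rw [mappingCocone.δ_descCochain _ _ _ _ 1 (by omega)]
      refine Cochain.ext₀ _ _ fun p => ?_
      rw [← Category.id_comp ((Cochain.ofHom (h ≫ ψ)).v p p (add_zero p)),
        ← mappingCocone.id_X w p (p + (-1)) rfl]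
      simp [h, g, w, mappingCone.δ_snd, Cochain.comp_v _ _ (neg_add_cancel 1) p (p + (-1)) p rfl (by omega)]⟩
  have hPz : ∀ i, i < min a c - 1 → IsZero ((mappingCocone w).X i) := fun i hi =>
    isZero_cone_X w (a := min a c - 1) (fun j hj => hcd j (Or.inl (by omega)))
      (fun j hj => isZero_cone_X ψ hFa (fun k hk => hJz k (by omega)) j (by omega)) (i + (-1)) (by omega)
  have hPq := isQCoh_cocone_X w (fun i => (PullbackMod.isQCoh_and_isFP_of_isFinLocFree _ (hE.2 i)).1)
    (isQCoh_cone_X ψ hFq hJq)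
  obtain ⟨G, γ, hG, -, hγg⟩ := exists_dominate hX hE g (quasiIso_fst w hac) hPz hPq
  refine ⟨G, γ ≫ g, γ ≫ h, hG, hγg, ?_⟩
  haveI : IsIso (DerivedCategory.Q.map ψ) := inferInstance
  rw [← cancel_mono (DerivedCategory.Q.map ψ), Category.assoc, ← hbQ, ← Functor.map_comp, ← Functor.map_comp]
  rw [Category.assoc, Category.assoc]
  exact (DerivedCategory.Q_map_eq_of_homotopy (C := X.Modules) (hH.compLeft γ)).symm

/-- Maps of strictly perfect complexes agreeing in the derived category are homotopic after a roof. -/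
theorem exists_homotopic {E F : CochainComplex X.Modules ℤ} (hE : DCoh.IsStrictlyPerfect E) {a : ℤ}
    (hFa : ∀ i, i < a → IsZero (F.X i)) (hFq : ∀ i, Coh.IsQCoh (F.X i)) (α β : E ⟶ F)
    (hαβ : DerivedCategory.Q.map α = DerivedCategory.Q.map β) :
    ∃ (G : CochainComplex X.Modules ℤ) (γ : G ⟶ E), DCoh.IsStrictlyPerfect G ∧ QuasiIso γ ∧
      Nonempty (Homotopy (γ ≫ α) (γ ≫ β)) := by
  obtain ⟨c, d, hcd⟩ := hE.1
  obtain ⟨J, ψ, hψ, hJz, hJq, hJA⟩ := exists_acy_complex hX F a hFa hFq (d + 2 - a).toNat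
  haveI := hψ
  let Q' := HomotopyCategory.quotient X.Modules (ComplexShape.up ℤ)
  have h0 : Q'.map (α ≫ ψ) = Q'.map (β ≫ ψ) := by
    refine (bijective_Qh_map c d a hcd hE.2 hJz (fun i hi => hJA i (by omega))).1 ?_
    have hq := fun f : E ⟶ J => (DerivedCategory.quotientCompQhIso X.Modules).hom.naturality f
    rw [← cancel_mono ((DerivedCategory.quotientCompQhIso X.Modules).hom.app J)]
    refine (hq (α ≫ ψ)).trans (Eq.trans ?_ (hq (β ≫ ψ)).symm)
    rw [Functor.map_comp, Functor.map_comp, hαβ]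
  let ho : Homotopy (α ≫ ψ) (β ≫ ψ) := HomotopyCategory.homotopyOfEq _ _ h0
  let v := α - β
  let ho' : Homotopy (v ≫ ψ) 0 :=
    ((Homotopy.ofEq (Preadditive.sub_comp α β ψ)).trans (Homotopy.equivSubZero ho))
  let z := Cochain.equivHomotopy _ _ ho'
  let w : E ⟶ mappingCocone ψ := mappingCocone.lift ψ v (-z.1) (by
    have hz2 : Cochain.ofHom (v ≫ ψ) = δ (-1) 0 z.1 := by simpa using z.2
    rw [δ_neg, neg_add_eq_zero]
    exact hz2.symm)
  have hw : w ≫ mappingCocone.fst ψ = v := mappingCocone.lift_fst _ _ _ _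
  have hac : ∀ i, (mappingCocone ψ).ExactAt i := fun i =>
    (HomologicalComplex.exactAt_iff_isZero_homology _ _).2
      (((HomologicalComplex.exactAt_iff_isZero_homology _ _).1
        (FilDLib.exactAt_mappingCone_of_quasiIso ψ ((-1) + i))).of_iso
        (((HomologicalComplex.homologyFunctor _ _ 0).shiftIso (-1 : ℤ) i ((-1) + i) rfl).app (mappingCone ψ)))
  have hzC : ∀ i, i < a → IsZero ((mappingCocone ψ).X i) := fun i hi =>
    isZero_cone_X ψ hFa (fun k hk => hJz k (by omega)) (i + (-1)) (by omega)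
  have hPz : ∀ i, i < min a c → IsZero ((mappingCocone w).X i) := fun i hi =>
    isZero_cone_X w (a := min a c) (fun j hj => hcd j (Or.inl (by omega)))
      (fun j hj => hzC j (by omega)) (i + (-1)) (by omega)
  have hPq := isQCoh_cocone_X w (fun i => (PullbackMod.isQCoh_and_isFP_of_isFinLocFree _ (hE.2 i)).1)
    (isQCoh_cocone_X ψ hFq hJq)
  obtain ⟨G, γ, hG, -, hγg⟩ := exists_dominate hX hE _ (quasiIso_fst w hac) hPz hPq
  refine ⟨G, γ ≫ mappingCocone.fst w, hG, hγg, ?_⟩
  obtain ⟨hz⟩ := homotopy_comp_of_cocone w γ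
  refine ⟨(Homotopy.equivSubZero).symm ((Homotopy.ofEq ?_).trans ((hz.compRight (mappingCocone.fst ψ)).trans
    (Homotopy.ofEq zero_comp)))⟩
  rw [Category.assoc _ w, hw, Preadditive.comp_sub]

end Groth.Agent.ResDerLib
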